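import Cfsg.Agent.Lib.OrthMax.Basic

/-!
Plane summands: perpendicular vectors, represented values, and the values of displacements by reflections.
-/

set_option autoImplicit false
set_option linter.unusedSectionVars false

namespace Cfsg.Agent.Lib.OrthMax.Two

open QuadraticMap

theorem card_filter_quad_le {F : Type*} [Field F] [Fintype F] [DecidableEq F] (a b c : F)
    (h : a ≠ 0 ∨ b ≠ 0 ∨ c ≠ 0) :
    (Finset.univ.filter fun s : F => a * s * s + b * s + c = 0).card ≤ 2 := by
  by_cases hr : ∃ r, a * r * r + b * r + c = 0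
  swap
  · push Not at hr
    simp [Finset.filter_false_of_mem fun s _ => hr s]
  obtain ⟨r, hr⟩ := hr
  refine (Finset.card_le_card (t := {r, -(b / a) - r}) fun s hs => ?_).trans Finset.card_le_two
  simp only [Finset.mem_filter, Finset.mem_univ, true_and] at hs
  simp only [Finset.mem_insert, Finset.mem_singleton]
  by_cases hsr : s = r
  · exact Or.inl hsr
  right
  have h1 : a * (s + r) + b = 0 := by
    have : (s - r) * (a * (s + r) + b) = 0 := by linear_combination hs - hr
    exact (mul_eq_zero.mp this).resolve_left (sub_ne_zero.mpr hsr)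
  have ha : a ≠ 0 := by
    intro ha
    have hb : b = 0 := by simpa [ha] using h1
    have hc : c = 0 := by simpa [ha, hb] using hr
    simp [ha, hb, hc] at h
  field_simp
  linear_combination h1

theorem card_filter_lin_le {F : Type*} [Field F] [Fintype F] [DecidableEq F] (b c : F)
    (h : b ≠ 0 ∨ c ≠ 0) : (Finset.univ.filter fun s : F => b * s + c = 0).card ≤ 1 := by
  refine Finset.card_le_one.mpr fun x hx y hy => ?_
  simp only [Finset.mem_filter, Finset.mem_univ, true_and] at hx hy
  by_contra hne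
  have hb : b = 0 := by
    have : b * (x - y) = 0 := by linear_combination hx - hy
    exact (mul_eq_zero.mp this).resolve_right (sub_ne_zero.mpr hne)
  simp [hb] at hx h
  exact h hx

/-- A subset of a finite field which is closed under multiplication by more than `√q` elements is closed
under multiplication by all. -/
theorem addSubgroup_mul_mem {F : Type*} [Field F] [Fintype F] (K : AddSubgroup F) (T : Finset F)
    (hT : Fintype.card F < T.card ^ 2) (hK : ∀ r ∈ T, ∀ s ∈ K, r * s ∈ K) (r s : F) (hs : s ∈ K) :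
    r * s ∈ K := by
  classical
  let R : Subring F :=
    { carrier := {r | ∀ s ∈ K, r * s ∈ K}
      mul_mem' := fun {a b} ha hb s hs => by rw [mul_assoc]; exact ha _ (hb s hs)
      one_mem' := fun s hs => by rwa [one_mul]
      add_mem' := fun {a b} ha hb s hs => by rw [add_mul]; exact K.add_mem (ha s hs) (hb s hs)
      zero_mem' := fun s hs => by rw [zero_mul]; exact K.zero_mem
      neg_mem' := fun {a} ha s hs => by rw [neg_mul]; exact K.neg_mem (ha s hs) }
  suffices hall : ∀ x, x ∈ R from hall r s hs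
  by_contra hc
  push Not at hc
  obtain ⟨r₀, hr₀⟩ := hc
  have hinv : ∀ x ∈ R, x⁻¹ ∈ R := fun x hx => by
    by_cases hx0 : x = 0
    · rw [hx0, inv_zero]; exact R.zero_mem
    have h1 : x ^ (Fintype.card F - 2) * x = 1 := by
      have h2 : 1 < Fintype.card F := Fintype.one_lt_card
      rw [← pow_succ, show Fintype.card F - 2 + 1 = Fintype.card F - 1 by omega]
      exact FiniteField.pow_card_sub_one_eq_one x hx0
    rw [← eq_inv_of_mul_eq_one_left h1]
    exact pow_mem hx _
  have hTR : ∀ x ∈ T, x ∈ R := fun x hx => hK x hx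
  have hinj : Set.InjOn (fun p : F × F => p.1 + p.2 * r₀) ↑(T ×ˢ T) := by
    rintro ⟨a, b⟩ hab ⟨a', b'⟩ hab' (he : a + b * r₀ = a' + b' * r₀)
    simp only [Finset.coe_product, Set.mem_prod, Finset.mem_coe] at hab hab'
    by_cases hbb : b = b'
    · subst hbb; simp at he; rw [he]
    exfalso
    apply hr₀
    have : r₀ = (a' - a) * (b - b')⁻¹ := by
      field_simp [sub_ne_zero.mpr hbb]
      linear_combination he
    rw [this]
    exact R.mul_mem (R.sub_mem (hTR _ hab'.1) (hTR _ hab.1)) (hinv _ (R.sub_mem (hTR _ hab.2) (hTR _ hab'.2)))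
  have hle := Finset.card_le_card_of_injOn (t := (Finset.univ : Finset F)) _ (fun _ _ => by simp) hinj
  rw [Finset.card_product, Finset.card_univ] at hle
  nlinarith

/-- Three large subsets of the non-zero elements have a vanishing partial sum. -/
theorem exists_zero_sum {F : Type*} [Field F] [Fintype F] [DecidableEq F] (X : Fin 3 → Finset F)
    (h0 : ∀ i, (0 : F) ∉ X i)
    (hc : ((2 : F) ≠ 0 ∧ ∀ i, Fintype.card F ≤ 2 * (X i).card + 1) ∨
      ((2 : F) = 0 ∧ ∀ i, 2 * Fintype.card F ≤ 4 * (X i).card + 4 ∧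
        (5 ≤ Fintype.card F ∨ Fintype.card F ≤ 2 * (X i).card))) :
    ∃ (S : Finset (Fin 3)) (x : Fin 3 → F), S.Nonempty ∧ (∀ i ∈ S, x i ∈ X i) ∧ ∑ i ∈ S, x i = 0 := by
  by_cases hp : ∃ i j, i ≠ j ∧ ∃ a ∈ X i, -a ∈ X j
  · obtain ⟨i, j, hij, a, ha, hb⟩ := hp
    refine ⟨{i, j}, fun l => if l = i then a else -a, Finset.insert_nonempty _ _, fun l hl => ?_, ?_⟩
    · simp only [Finset.mem_insert, Finset.mem_singleton] at hl
      rcases hl with rfl | rfl <;> simp [hij.symm, ha, hb]
    · rw [Finset.sum_pair hij]; simp [hij.symm]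
  push Not at hp
  have hsub : ∀ i j, i ≠ j → Disjoint ((X i).image Neg.neg) (X j) := fun i j hij => by
    rw [Finset.disjoint_left]
    intro b hb hbj
    obtain ⟨a, ha, rfl⟩ := Finset.mem_image.mp hb
    exact hp i j hij a ha hbj
  have hneg : ∀ i, ((X i).image Neg.neg).card = (X i).card := fun i =>
    Finset.card_image_of_injective _ neg_injective
  rcases hc with ⟨-, hc⟩ | ⟨h2, hc⟩
  · -- the three sets coincide and are closed under addition
    have hun : ∀ i j, i ≠ j → ∀ x, x ≠ 0 → -x ∈ X i ∨ x ∈ X j := by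
      intro i j hij x hx
      have hsub' : (X i).image Neg.neg ∪ X j ⊆ Finset.univ.erase 0 := fun y hy => by
        simp only [Finset.mem_erase, Finset.mem_univ, and_true]
        rintro rfl
        rcases Finset.mem_union.mp hy with h | h
        · obtain ⟨a, ha, e⟩ := Finset.mem_image.mp h
          exact h0 i (neg_eq_zero.mp e ▸ ha)
        · exact h0 j h
      have heq : (X i).image Neg.neg ∪ X j = Finset.univ.erase 0 := by
        refine Finset.eq_of_subset_of_card_le hsub' ?_
        rw [Finset.card_union_of_disjoint (hsub i j hij), hneg, Finset.card_erase_of_mem (Finset.mem_univ _),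
          Finset.card_univ]
        have := hc i; have := hc j; omega
      have hx' : x ∈ (X i).image Neg.neg ∪ X j := by rw [heq]; simp [hx]
      rcases Finset.mem_union.mp hx' with h | h
      · obtain ⟨a, ha, rfl⟩ := Finset.mem_image.mp h
        exact Or.inl (by rwa [neg_neg])
      · exact Or.inr h
    have heq : ∀ j l, j ≠ l → ∀ x ∈ X j, x ∈ X l := by
      intro j l hjl x hx
      obtain ⟨i, hij, hil⟩ : ∃ i, i ≠ j ∧ i ≠ l := by clear hx; revert j l; decide
      have hx0 : x ≠ 0 := fun e => h0 j (e ▸ hx)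
      exact (hun i l hil x hx0).resolve_left fun h => hp i j hij (-x) h (by rwa [neg_neg])
    obtain ⟨x, hx⟩ : (X 0).Nonempty := by
      have := hc 0; have := Fintype.one_lt_card (α := F); exact Finset.card_pos.mp (by omega)
    have hclosed : ∀ a ∈ X 0, ∀ b ∈ X 0, a + b ≠ 0 →
        a + b ∈ X 0 ∨ ∃ c ∈ X 2, a + b + c = 0 := fun a ha b hb hab => by
      rcases hun 2 0 (by decide) (a + b) hab with h | h
      · exact Or.inr ⟨_, h, by ring⟩
      · exact Or.inl h
    by_cases htr : ∃ a ∈ X 0, ∃ b ∈ X 0, ∃ c ∈ X 2, a + b + c = 0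
    · obtain ⟨a, ha, b, hb, c, hc', hs⟩ := htr
      refine ⟨Finset.univ, ![a, b, c], Finset.univ_nonempty, fun l _ => ?_, ?_⟩
      · fin_cases l
        · exact ha
        · exact heq 0 1 (by decide) b hb
        · exact hc'
      · simp [Fin.sum_univ_three, hs]
    exfalso
    have hall : ∀ n : ℕ, ((n + 1 : ℕ) : F) * x ∈ X 0 := by
      intro n
      induction n with
      | zero => simpa using hx
      | succ n ih =>
        have e : ((n + 1 + 1 : ℕ) : F) * x = ((n + 1 : ℕ) : F) * x + x := by push_cast; ring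
        rw [e]
        refine (hclosed _ ih x hx fun hs => ?_).resolve_right fun ⟨c, hc', hs⟩ =>
          htr ⟨_, ih, x, hx, c, hc', hs⟩
        exact hp 0 1 (by decide) x hx (heq 0 1 (by decide) _ (by
          rw [show -x = ((n + 1 : ℕ) : F) * x by linear_combination -hs]; exact ih))
    obtain ⟨p, hp'⟩ := CharP.exists F
    have hp0 : 0 < p := Nat.pos_of_ne_zero fun e => by
      subst e; haveI := CharP.charP_to_charZero F; exact not_finite F
    have := hall (p - 1)
    rw [show p - 1 + 1 = p by omega, CharP.cast_eq_zero, zero_mul] at this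
    exact h0 0 this
  · exfalso
    haveI : CharP F 2 := CharTwo.of_one_ne_zero_of_two_eq_zero one_ne_zero h2
    have hd : ∀ i j, i ≠ j → Disjoint (X i) (X j) := fun i j hij => by
      have := hsub i j hij
      rwa [show (X i).image Neg.neg = X i by
        conv_rhs => rw [← Finset.image_id (s := X i)]
        exact Finset.image_congr fun a _ => CharTwo.neg_eq a] at this
    have hsub' : X 0 ∪ X 1 ∪ X 2 ⊆ Finset.univ.erase 0 := fun y hy => by
      simp only [Finset.mem_erase, Finset.mem_univ, and_true]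
      rintro rfl
      simp only [Finset.mem_union] at hy
      rcases hy with (h | h) | h <;> exact h0 _ h
    have hle := Finset.card_le_card hsub'
    rw [Finset.card_union_of_disjoint (Finset.disjoint_union_left.mpr
      ⟨hd 0 2 (by decide), hd 1 2 (by decide)⟩), Finset.card_union_of_disjoint (hd 0 1 (by decide)),
      Finset.card_erase_of_mem (Finset.mem_univ _), Finset.card_univ] at hle
    have := hc 0; have := hc 1; have := hc 2; have := Fintype.one_lt_card (α := F)
    omega

theorem isSquare_mul_of_not {F : Type*} [Field F] [Finite F] {a b : F} (ha : ¬ IsSquare a)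
    (hb : ¬ IsSquare b) : IsSquare (a * b) := by
  classical
  haveI := Fintype.ofFinite F
  have ha0 : a ≠ 0 := fun e => ha (e ▸ IsSquare.zero)
  have hb0 : b ≠ 0 := fun e => hb (e ▸ IsSquare.zero)
  rw [← quadraticChar_one_iff_isSquare (mul_ne_zero ha0 hb0), map_mul,
    quadraticChar_neg_one_iff_not_isSquare.mpr ha, quadraticChar_neg_one_iff_not_isSquare.mpr hb]
  norm_num

variable {ι : Type} [Fintype ι] [DecidableEq ι] {F : Type*} [Field F]
  {Q : QuadraticForm F (ι → F)} {t : ℕ} {D : Fin t → Submodule F (ι → F)}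

local notation "Vs" => (ι → F)

theorem exists_nonsing (h : Dec Q 2 D) (i : Fin t) : ∃ a ∈ D i, Q a ≠ 0 := by
  by_contra hc
  push Not at hc
  obtain ⟨x, hx, hx'⟩ := exists_mem_notMem (S := D i) (T := ⊥) (by rw [finrank_bot, h.finrank_eq]; omega)
  obtain ⟨y, hy, hne⟩ := h.exists_ne hx (by simpa using hx')
  exact hne (by simp [QuadraticMap.polar, hc x hx, hc y hy, hc _ ((D i).add_mem hx hy)])

theorem exists_perp (h : Dec Q 2 D) {i : Fin t} (x : Vs) :
    ∃ w ∈ D i, w ≠ 0 ∧ polar ⇑Q x w = 0 := by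
  obtain ⟨w, hw, hw0⟩ := exists_mem_notMem (S := D i ⊓ LinearMap.ker (QuadraticMap.polarBilin Q x))
    (T := ⊥) (by
      have := le_finrank_inf_ker (D i) (QuadraticMap.polarBilin Q x)
      rw [h.finrank_eq] at this
      rw [finrank_bot]; omega)
  exact ⟨w, hw.1, by simpa using hw0, hw.2⟩

theorem mem_pair (h : Dec Q 2 D) {i : Fin t} {x y z : Vs} (hx : x ∈ D i) (hy : y ∈ D i)
    (hli : LinearIndependent F ![x, y]) (hz : z ∈ D i) : ∃ a b : F, z = a • x + b • y := by
  have hle : Submodule.span F (Set.range ![x, y]) ≤ D i :=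
    Submodule.span_le.mpr (by rintro _ ⟨l, rfl⟩; fin_cases l <;> assumption)
  have heq := Submodule.eq_of_le_of_finrank_eq hle (by
    rw [finrank_span_eq_card hli, h.finrank_eq]; rfl)
  rw [← heq, Matrix.range_cons, Matrix.range_cons, Matrix.range_empty, Set.union_empty,
    Set.singleton_union, Submodule.mem_span_pair] at hz
  obtain ⟨a, b, e⟩ := hz
  exact ⟨a, b, e.symm⟩

theorem exists_dual (h : Dec Q 2 D) (hQ : (QuadraticMap.polarBilin Q).Nondegenerate) {i : Fin t} {x : Vs}
    (hx : x ∈ D i) (hx0 : x ≠ 0) : ∃ v ∈ D i, polar ⇑Q x v = 1 := by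
  obtain ⟨v, hv, hvx⟩ := h.exists_in hQ (u := ![x]) (i := i) (fun l => by fin_cases l; exact hx)
    (LinearIndependent.of_subsingleton (i := (0 : Fin 1)) hx0) ![1]
  exact ⟨v, hv, hvx 0⟩

theorem perp_eq (h : Dec Q 2 D) (hQ : (QuadraticMap.polarBilin Q).Nondegenerate) {i : Fin t} {x w z : Vs}
    (hx : x ∈ D i) (hx0 : x ≠ 0) (hw : w ∈ D i) (hw0 : w ≠ 0) (hxw : polar ⇑Q x w = 0)
    (hz : z ∈ D i) (hxz : polar ⇑Q x z = 0) : ∃ a : F, z = a • w := by
  obtain ⟨v, hv, hxv⟩ := exists_dual h hQ hx hx0
  have hli : LinearIndependent F ![w, v] := linearIndependent_pair_of_notMem hw0 fun hm => by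
    obtain ⟨c, rfl⟩ := Submodule.mem_span_singleton.mp hm
    rw [polar_smul_right, hxw, smul_zero] at hxv
    exact zero_ne_one hxv
  obtain ⟨a, b, rfl⟩ := mem_pair h hw hv hli hz
  rw [polar_add_right, polar_smul_right, polar_smul_right, hxw, hxv] at hxz
  exact ⟨a, by rw [show b = 0 by simpa using hxz, zero_smul, add_zero]⟩

theorem singular_cases (h : Dec Q 2 D) {i : Fin t} {x y z : Vs} (hx : x ∈ D i) (hy : y ∈ D i)
    (hz : z ∈ D i) (hxQ : Q x = 0) (hyQ : Q y = 0) (hzQ : Q z = 0) (hxy : polar ⇑Q x y ≠ 0) :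
    (∃ a : F, z = a • x) ∨ ∃ b : F, z = b • y := by
  have hli : LinearIndependent F ![x, y] := linearIndependent_pair_of_notMem
    (fun e => hxy (by rw [e, polar_zero_left])) fun hm => by
      obtain ⟨c, rfl⟩ := Submodule.mem_span_singleton.mp hm
      rw [polar_smul_right, polar_self, hxQ] at hxy
      simp at hxy
  obtain ⟨a, b, rfl⟩ := mem_pair h hx hy hli hz
  rw [QuadraticMap.map_add (⇑Q), QuadraticMap.map_smul, QuadraticMap.map_smul, polar_smul_left,
    polar_smul_right, hxQ, hyQ] at hzQ
  simp [hxy] at hzQ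
  rcases hzQ with rfl | rfl
  · exact Or.inr ⟨b, by simp⟩
  · exact Or.inl ⟨a, by simp⟩

theorem Q_perp_ne (h : Dec Q 2 D) (hQ : (QuadraticMap.polarBilin Q).Nondegenerate) {i : Fin t} {x w : Vs}
    (hx : x ∈ D i) (hxQ : Q x ≠ 0) (hw : w ∈ D i) (hw0 : w ≠ 0) (hxw : polar ⇑Q x w = 0) :
    Q w ≠ 0 := by
  intro hwQ
  obtain ⟨a, ha⟩ := perp_eq h hQ hw hw0 hw hw0 (by rw [polar_self, hwQ, nsmul_zero]) hx
    (by rw [polar_comm]; exact hxw)
  rw [ha, QuadraticMap.map_smul, hwQ, smul_zero] at hxQ
  exact hxQ rfl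

/-- Every non-zero value is taken on every plane summand. -/
theorem exists_value [Finite F] (h : Dec Q 2 D) (hQ : (QuadraticMap.polarBilin Q).Nondegenerate)
    (i : Fin t) {α : F} (hα : α ≠ 0) : ∃ v ∈ D i, Q v = α := by
  obtain ⟨a, ha, ha0⟩ := exists_nonsing h i
  by_cases h2 : (2 : F) = 0
  · haveI : CharP F 2 := CharTwo.of_one_ne_zero_of_two_eq_zero one_ne_zero h2
    obtain ⟨s, hs⟩ := surjective_frobenius F 2 (α / Q a)
    rw [frobenius_def, pow_two] at hs
    exact ⟨s • a, (D i).smul_mem _ ha, by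
      rw [QuadraticMap.map_smul, smul_eq_mul, hs, div_mul_cancel₀ _ ha0]⟩
  haveI := Fintype.ofFinite F
  obtain ⟨b, hb, hb0, hab⟩ := exists_perp h (i := i) a
  have hQb := Q_perp_ne h hQ ha ha0 hb hb0 hab
  have hodd : Fintype.card F % 2 = 1 := FiniteField.odd_card_of_char_ne_two fun hc => h2 (by
    haveI := ringChar.of_eq hc
    exact CharTwo.two_eq_zero)
  open Polynomial in
  obtain ⟨x, y, hxy⟩ := FiniteField.exists_root_sum_quadratic (f := C (Q a) * X ^ 2)
    (g := C (Q b) * X ^ 2 - C α) (degree_C_mul_X_pow 2 ha0)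
    (by rw [sub_eq_add_neg, degree_add_eq_left_of_degree_lt] <;> rw [degree_C_mul_X_pow 2 hQb] <;>
      simp [degree_neg, degree_C hα]) hodd
  refine ⟨x • a + y • b, (D i).add_mem ((D i).smul_mem _ ha) ((D i).smul_mem _ hb), ?_⟩
  simp only [Polynomial.eval_mul, Polynomial.eval_C, Polynomial.eval_pow, Polynomial.eval_X,
    Polynomial.eval_sub] at hxy
  rw [QuadraticMap.map_add (⇑Q), QuadraticMap.map_smul, QuadraticMap.map_smul, polar_smul_left,
    polar_smul_right, hab]
  simp only [smul_eq_mul, mul_zero, add_zero]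
  linear_combination hxy

/-- The discriminants of two orthogonal bases of a plane differ by a square. -/
theorem isSquare_disc (h : Dec Q 2 D) (hQ : (QuadraticMap.polarBilin Q).Nondegenerate) {i : Fin t}
    {x y x' y' : Vs} (hx : x ∈ D i) (hy : y ∈ D i) (hx' : x' ∈ D i) (hy' : y' ∈ D i) (hxQ : Q x ≠ 0)
    (hy0 : y ≠ 0) (hxy : polar ⇑Q x y = 0) (hxy' : polar ⇑Q x' y' = 0) (h2 : (2 : F) ≠ 0) :
    IsSquare (Q x * Q y * (Q x' * Q y')) := by
  have hli : LinearIndependent F ![x, y] := linearIndependent_pair_of_notMem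
    (fun e => hxQ (by rw [e, QuadraticMap.map_zero])) fun hm => by
      obtain ⟨c, rfl⟩ := Submodule.mem_span_singleton.mp hm
      rw [polar_smul_right, polar_self, two_nsmul, ← two_mul, smul_eq_mul] at hxy
      simp [h2, hxQ] at hxy
      subst hxy; simp at hy0
  obtain ⟨a, b, rfl⟩ := mem_pair h hx hy hli hx'
  obtain ⟨c, d, rfl⟩ := mem_pair h hx hy hli hy'
  simp only [polar_add_left, polar_add_right, polar_smul_left, polar_smul_right, polar_self, hxy,
    polar_comm (⇑Q) y x, smul_eq_mul, two_nsmul] at hxy'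
  have horth : a * c * Q x + b * d * Q y = 0 := by
    have : (2 : F) * (a * c * Q x + b * d * Q y) = 0 := by linear_combination hxy'
    exact (mul_eq_zero.mp this).resolve_left h2
  refine ⟨(a * d - b * c) * (Q x * Q y), ?_⟩
  simp only [QuadraticMap.map_add (⇑Q), QuadraticMap.map_smul, polar_smul_left, polar_smul_right, hxy,
    smul_eq_mul, mul_zero, add_zero]
  linear_combination (a * c * Q x + b * d * Q y) * (Q x * Q y) * horth

variable (Q D) in
/-- The values `Q(r a - a)` for the reflections `r` of the `i`-th summand moving `a`. -/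
noncomputable def disp [Fintype F] (i : Fin t) (a : ι → F) : Finset F := by
  classical
  exact Finset.univ.filter fun x => x ≠ 0 ∧ ∃ d ∈ D i, Q d ≠ 0 ∧ x * Q d = polar ⇑Q a d * polar ⇑Q a d

theorem mem_disp [Fintype F] {i : Fin t} {a : Vs} {x : F} :
    x ∈ disp Q D i a ↔ x ≠ 0 ∧ ∃ d ∈ D i, Q d ≠ 0 ∧ x * Q d = polar ⇑Q a d * polar ⇑Q a d := by
  classical
  simp [disp]

theorem exists_dual_indep (h : Dec Q 2 D) (hQ : (QuadraticMap.polarBilin Q).Nondegenerate) {i : Fin t}
    {a : Vs} (ha : a ∈ D i) (haQ : Q a ≠ 0) :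
    ∃ w ∈ D i, polar ⇑Q a w = 1 ∧ LinearIndependent F ![a, w] ∧ 4 * Q a * Q w ≠ 1 := by
  have ha0 : a ≠ 0 := fun e => haQ (by rw [e, QuadraticMap.map_zero])
  obtain ⟨w, hw, haw, hli⟩ : ∃ w ∈ D i, polar ⇑Q a w = 1 ∧ LinearIndependent F ![a, w] := by
    obtain ⟨w, hw, haw⟩ := exists_dual h hQ ha ha0
    by_cases hm : w ∈ (F ∙ a)
    swap
    · exact ⟨w, hw, haw, linearIndependent_pair_of_notMem ha0 hm⟩
    obtain ⟨c, rfl⟩ := Submodule.mem_span_singleton.mp hm
    obtain ⟨y, hy, hy0, hay⟩ := exists_perp h (i := i) a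
    refine ⟨c • a + y, (D i).add_mem hw hy, by rw [polar_add_right, haw, hay, add_zero],
      linearIndependent_pair_of_notMem ha0 fun hm' => ?_⟩
    obtain ⟨d, hd⟩ := Submodule.mem_span_singleton.mp hm'
    have hy' : y = (d - c) • a := by rw [sub_smul, hd, add_sub_cancel_left]
    rw [hy', polar_smul_right, smul_eq_mul] at hay
    rw [polar_smul_right, smul_eq_mul] at haw
    have hd0 : d - c = 0 := (mul_eq_zero.mp hay).resolve_right fun e => by simp [e] at haw
    exact hy0 (by rw [hy', hd0, zero_smul])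
  refine ⟨w, hw, haw, hli, fun he => ?_⟩
  have hz : a - (2 * Q a) • w ≠ 0 := fun e0 => by
    have := (LinearIndependent.pair_iff.mp hli 1 (-(2 * Q a)) (by rw [one_smul, neg_smul, ← sub_eq_add_neg, e0])).1
    exact one_ne_zero this
  obtain ⟨z, hz', hne⟩ := h.exists_ne ((D i).sub_mem ha ((D i).smul_mem _ hw)) hz
  obtain ⟨p, r, rfl⟩ := mem_pair h ha hw hli hz'
  apply hne
  simp only [polar_add_right, polar_sub_left, polar_smul_left, polar_smul_right, polar_self, haw,
    polar_comm (⇑Q) w a, smul_eq_mul, two_nsmul]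
  linear_combination -r * he

open Classical in
/-- Lower bounds for the number of displacement values. -/
theorem card_disp [Fintype F] (h : Dec Q 2 D) (hQ : (QuadraticMap.polarBilin Q).Nondegenerate) {i : Fin t}
    {a : Vs} (ha : a ∈ D i) (haQ : Q a ≠ 0) :
    Fintype.card F ≤ 2 * ((disp Q D i a).erase (4 * Q a)).card +
        (if ∀ x ∈ D i, Q x = 0 → x = 0 then 0 else 2) + (if (2 : F) = 0 then 0 else 1) ∧
      ((2 : F) ≠ 0 → 4 * Q a ∈ disp Q D i a) := by
  have ha0 : a ≠ 0 := fun e => haQ (by rw [e, QuadraticMap.map_zero])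
  constructor
  swap
  · intro h2
    refine mem_disp.mpr ⟨mul_ne_zero ?_ haQ, a, ha, haQ, ?_⟩
    · rw [show (4 : F) = 2 * 2 by norm_num]; exact mul_ne_zero h2 h2
    · rw [polar_self]; simp only [two_nsmul]; ring
  obtain ⟨w, hw, haw, hli, hgram⟩ := exists_dual_indep h hQ ha haQ
  set α := Q a with hα
  set γ := Q w with hγ
  have hp : ∀ s : F, polar ⇑Q a (s • a + w) = 2 * α * s + 1 := fun s => by
    rw [polar_add_right, polar_smul_right, polar_self, haw]; simp only [two_nsmul, smul_eq_mul]; ring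
  have hq : ∀ s : F, Q (s • a + w) = α * s * s + s + γ := fun s => by
    rw [QuadraticMap.map_add (⇑Q), QuadraticMap.map_smul, polar_smul_left, haw]
    simp only [smul_eq_mul]; ring
  set φ : F → F := fun s => (2 * α * s + 1) * (2 * α * s + 1) / (α * s * s + s + γ) with hφ
  set B := (Finset.univ.filter fun s : F => α * s * s + s + γ = 0) ∪
    (Finset.univ.filter fun s : F => 2 * α * s + 1 = 0) with hB
  have h1 : (Finset.univ.filter fun s : F => α * s * s + s + γ = 0).card ≤
      if ∀ x ∈ D i, Q x = 0 → x = 0 then 0 else 2 := by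
    split_ifs with hA
    · rw [Finset.filter_false_of_mem, Finset.card_empty]
      intro s _ hs
      have h0 := hA _ ((D i).add_mem ((D i).smul_mem s ha) hw) ((hq s).trans hs)
      exact one_ne_zero (LinearIndependent.pair_iff.mp hli s 1 (by rw [one_smul]; exact h0)).2
    · simpa using card_filter_quad_le α 1 γ (Or.inl haQ)
  have h2' : (Finset.univ.filter fun s : F => 2 * α * s + 1 = 0).card ≤ if (2 : F) = 0 then 0 else 1 := by
    split_ifs with h2
    · rw [Finset.filter_false_of_mem, Finset.card_empty]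
      intro s _ hs
      rw [h2] at hs; simp at hs
    · exact card_filter_lin_le _ _ (Or.inr one_ne_zero)
  have hBc : B.card ≤ _ := (Finset.card_union_le _ _).trans (Nat.add_le_add h1 h2')
  have himg : (Finset.univ \ B).card ≤ 2 * ((disp Q D i a).erase (4 * α)).card := by
    refine Finset.card_le_mul_card_image_of_maps_to (f := φ) (fun s hs => ?_) 2 fun x _ => ?_
    · simp only [hB, Finset.mem_sdiff, Finset.mem_union, Finset.mem_filter, Finset.mem_univ, true_and,
        not_or] at hs
      refine Finset.mem_erase.mpr ⟨fun e => ?_, mem_disp.mpr ⟨div_ne_zero (mul_self_ne_zero.mpr hs.2) hs.1,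
        s • a + w, (D i).add_mem ((D i).smul_mem s ha) hw, by rw [hq]; exact hs.1, ?_⟩⟩
      · simp only [hφ] at e
        rw [div_eq_iff hs.1] at e
        exact hgram (by linear_combination -e)
      · rw [hq, hp, hφ, div_mul_cancel₀ _ hs.1]
    · refine (Finset.card_le_card fun s hs => ?_).trans
        (card_filter_quad_le (4 * α * α - x * α) (4 * α - x) (1 - x * γ) ?_)
      · simp only [hB, Finset.mem_sdiff, Finset.mem_union, Finset.mem_filter, Finset.mem_univ, true_and,
          not_or] at hs ⊢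
        obtain ⟨⟨hs1, -⟩, hs2⟩ := hs
        rw [hφ, div_eq_iff hs1] at hs2
        linear_combination hs2
      · by_contra hc
        push Not at hc
        obtain ⟨h3, h4, h5⟩ := hc
        exact hgram (by linear_combination γ * h4 - h5)
  rw [Finset.card_sdiff_of_subset (Finset.subset_univ _), Finset.card_univ] at himg
  omega

end Cfsg.Agent.Lib.OrthMax.Two
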