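import Cfsg.Agent.Lib.OrthMax.Two.Overclass

/-!
The stabiliser of an orthogonal decomposition into at least seven planes is maximal in `Ω`.
-/

set_option autoImplicit false
set_option linter.unusedSectionVars false

namespace Cfsg.Agent.Lib.OrthMax.Two

open QuadraticMap
open Cfsg.Agent.Lib.FormMax.OrthSL (eichlerGL eichlerGL_mulVec Q_eichlerGL)

variable {ι : Type} [Fintype ι] [DecidableEq ι] {F : Type*} [Field F] [Fintype F]
  {Q : QuadraticForm F (ι → F)} {t : ℕ} {D : Fin t → Submodule F (ι → F)} {M : Subgroup (GL ι F)}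

local notation "Vs" => (ι → F)

theorem pres_of_maps (h : Dec Q 2 D) (g : ↥(Cfsg.isometryGroup F ⇑Q))
    (hg : ∀ i, ∃ j, ∀ x ∈ D i, Orth.app g x ∈ D j) : Pres Q D g := by
  choose σ hσ using hg
  have hmap : ∀ j, (D j).map (Matrix.mulVecLin ((g : GL ι F) : Matrix ι ι F)) = D (σ j) := fun j => by
    refine Submodule.eq_of_le_of_finrank_eq ?_ ?_
    · rintro _ ⟨x, hx, rfl⟩; exact hσ j x hx
    · rw [← (Submodule.equivMapOfInjective _ (ap_injective _) (D j)).finrank_eq, h.finrank_eq, h.finrank_eq]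
  have hinj : Function.Injective σ := by
    intro i i' hii
    by_contra hne
    obtain ⟨x, hx, hx0⟩ := exists_mem_notMem (S := D i) (T := ⊥) (by rw [finrank_bot, h.finrank_eq]; omega)
    obtain ⟨y, hy, hyx⟩ := ((hmap i).trans (hii ▸ (hmap i').symm)).le ⟨x, hx, rfl⟩
    exact hx0 (by rw [Submodule.mem_bot]; exact h.disjoint hne hx (ap_injective _ hyx ▸ hy))
  exact ⟨Equiv.ofBijective σ (Finite.injective_iff_bijective.mp hinj), hσ⟩

theorem proj_eq_zero_of_pair (h : Dec Q 2 D) {n n' k : Fin t} (hk : k ≠ n) (hk' : k ≠ n') {x y : Vs}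
    (hx : x ∈ D n) (hy : y ∈ D n') : h.proj k (x - y) = 0 := by
  rw [map_sub, h.proj_of_mem_ne hk hx, h.proj_of_mem_ne hk' hy, sub_zero]

/-- A line family of a plane has at most two members with singular image. -/
theorem card_sing_le [DecidableEq F] (h : Dec Q 2 D) (hQ : (QuadraticMap.polarBilin Q).Nondegenerate)
    {l a : Fin t} (L : Vs →ₗ[F] Vs) (hmap : ∀ x ∈ D l, L x ∈ D a) (hinj : ∀ x ∈ D l, L x = 0 → x = 0)
    {w₀ w₁ : Vs} (h₀ : w₀ ∈ D l) (h₁ : w₁ ∈ D l) (hli : LinearIndependent F ![w₀, w₁]) :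
    (Finset.univ.filter fun o : Option F => Q (L (o.elim w₁ fun s => w₀ + s • w₁)) = 0).card ≤ 2 := by
  set v : Option F → Vs := fun o => o.elim w₁ fun s => w₀ + s • w₁ with hv
  have hvD : ∀ o, v o ∈ D l := fun o => by
    cases o with
    | none => exact h₁
    | some s => exact (D l).add_mem h₀ ((D l).smul_mem _ h₁)
  have hind : ∀ o o', o ≠ o' → ∀ c : F, v o' ≠ c • v o := by
    intro o o' hne c he
    have hp := LinearIndependent.pair_iff.mp hli
    cases o with
    | none => cases o' with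
      | none => exact hne rfl
      | some s' =>
        exact one_ne_zero (hp 1 (s' - c) (by
          simp only [hv, Option.elim] at he
          linear_combination (norm := module) he)).1
    | some s => cases o' with
      | none =>
        simp only [hv, Option.elim] at he
        obtain ⟨h1, h2⟩ := hp (-c) (1 - c * s) (by linear_combination (norm := module) he)
        rw [neg_eq_zero] at h1
        simp [h1] at h2
      | some s' =>
        simp only [hv, Option.elim] at he
        obtain ⟨h1, h2⟩ := hp (1 - c) (s' - c * s) (by linear_combination (norm := module) he)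
        rw [← sub_eq_zero.mp h1, one_mul] at h2
        exact hne (by rw [sub_eq_zero.mp h2])
  by_contra hc
  rw [not_le, Finset.two_lt_card] at hc
  obtain ⟨o₁, h1, o₂, h2, o₃, h3, h12, h13, h23⟩ := hc
  simp only [Finset.mem_filter, Finset.mem_univ, true_and] at h1 h2 h3
  have hne : ∀ o o', o ≠ o' → ∀ c : F, L (v o') ≠ c • L (v o) := fun o o' hoo c he =>
    hind o o' hoo c (sub_eq_zero.mp (hinj _ ((D l).sub_mem (hvD o') ((D l).smul_mem _ (hvD o)))
      (by rw [map_sub, map_smul, he, sub_self])))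
  have hpol : polar ⇑Q (L (v o₁)) (L (v o₂)) ≠ 0 := by
    intro h0
    have hz : L (v o₁) ≠ 0 := fun e => hne o₂ o₁ (Ne.symm h12) 0 (by rw [e, zero_smul])
    obtain ⟨c, hc⟩ := perp_eq h hQ (hmap _ (hvD o₁)) hz (hmap _ (hvD o₁)) hz
      (by rw [polar_self, h1, nsmul_zero]) (hmap _ (hvD o₂)) h0
    exact hne o₁ o₂ h12 c hc
  rcases singular_cases h (hmap _ (hvD o₁)) (hmap _ (hvD o₂)) (hmap _ (hvD o₃)) h1 h2 h3 hpol with
    ⟨c, hc⟩ | ⟨c, hc⟩
  · exact hne o₁ o₃ h13 c hc
  · exact hne o₂ o₃ h23 c hc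

namespace Cfg

variable (C : Cfg Q D M)
include C

theorem omega_of_fix {l : Fin t} {w : Vs} (hw : w ∈ D l) (hwQ : Q w ≠ 0) {x : ↥(Cfsg.isometryGroup F ⇑Q)}
    (hx : (x : GL ι F) ∈ M) (hfix : Orth.app x w = w) (hnp : ¬ Pres Q D x) :
    Cfsg.Geo.omegaGL ⇑Q ≤ M := by
  classical
  by_contra hcon
  apply hnp
  have hone : ∀ i, ∀ d ∈ D i, Q d ≠ 0 → IsSquare (Q d * Q w) → ∃ p, Orth.app x d ∈ D p := by
    intro i d hd hdQ hs
    by_contra hc
    push Not at hc
    have hcl : Cl Q M w (Orth.app x d) := (C.cl_of_class hw hwQ hd hdQ hs).map hx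
      (by rw [hfix]; exact C.cl_of_class hw hwQ hw hwQ ⟨Q w, rfl⟩)
    refine hcon (C.omega_of_cl hw hwQ hcl (Finset.one_lt_card.mpr ?_))
    obtain ⟨p, hp⟩ := supp_nonempty (h := C.dec) (v := Orth.app x d) fun e => hcl.1 (by rw [e, QuadraticMap.map_zero])
    by_contra hall
    push Not at hall
    exact hc p (C.dec.mem_of_proj fun j hj => by
      by_contra h0
      exact hj (hall j (mem_supp.mpr h0) p hp))
  refine pres_of_maps C.dec x fun i => ?_
  obtain ⟨v₀, hv₀, hv₀Q⟩ := C.value i hwQ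
  obtain ⟨d, hd, hdD, -, hp, hli⟩ := C.exists_second hv₀ (hv₀Q ▸ hwQ)
  set v₁ := Orth.app (Orth.refl Q d hd) v₀ with hv₁
  have hv₁D : v₁ ∈ D i := by rw [hv₁, Orth.app_refl]; exact (D i).sub_mem hv₀ ((D i).smul_mem _ hdD)
  obtain ⟨p, hp0⟩ := hone i v₀ hv₀ (hv₀Q ▸ hwQ) ⟨Q w, by rw [hv₀Q]⟩
  obtain ⟨p', hp1⟩ := hone i v₁ hv₁D (by rw [hv₁, Orth.Q_app, hv₀Q]; exact hwQ) ⟨Q w, by rw [hv₁, Orth.Q_app, hv₀Q]⟩
  have hpp : p = p' := by
    by_contra hne
    exact hp (by rw [← Orth.polar_app x, C.dec.orth hne hp0 hp1])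
  subst hpp
  refine ⟨p, fun y hy => ?_⟩
  obtain ⟨α, β, rfl⟩ := mem_pair C.dec hv₀ hv₁D hli hy
  rw [Orth.app_add, Orth.app_smul, Orth.app_smul]
  exact (D p).add_mem ((D p).smul_mem _ hp0) ((D p).smul_mem _ hp1)

/-- If the conjugate of a rotation permutes the summands, then the image of its summand is a summand. -/
theorem image_mem_of_pres (g z : ↥(Cfsg.isometryGroup F ⇑Q)) (a : Fin t)
    (hzP : ∀ y, ∃ x ∈ D a, Orth.app z y - y = Orth.app g x)
    (hfree : ∀ x ∈ D a, Orth.app z (Orth.app g x) = Orth.app g x → x = 0)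
    (hord : ∃ x ∈ D a, Orth.app z (Orth.app z (Orth.app g x)) ≠ Orth.app g x) (hp : Pres Q D z) :
    ∃ n, ∀ x ∈ D a, Orth.app g x ∈ D n := by
  classical
  obtain ⟨σ, hσ⟩ := hp
  have hlin : ∀ (k : ↥(Cfsg.isometryGroup F ⇑Q)) (v : Vs),
      Orth.app k v = Matrix.mulVecLin ((k : GL ι F) : Matrix ι ι F) v := fun k v => rfl
  have hsurj : ∀ x ∈ D a, ∃ y ∈ D a, Orth.app z (Orth.app g y) - Orth.app g y = Orth.app g x := by
    let T := Matrix.mulVecLin ((g⁻¹ * z * g : ↥(Cfsg.isometryGroup F ⇑Q)) : GL ι F).val - LinearMap.id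
    have hT : ∀ v, T v = Orth.app g⁻¹ (Orth.app z (Orth.app g v)) - v := fun v => by
      show Orth.app (g⁻¹ * z * g) v - v = _
      rw [Orth.app_mul, Orth.app_mul]
    let L : D a →ₗ[F] D a := (T.comp (D a).subtype).codRestrict (D a) fun v => by
      obtain ⟨x, hx, he⟩ := hzP (Orth.app g (v : Vs))
      show T v ∈ D a
      rw [hT, ← Orth.app_inv_app g (v : Vs), ← Orth.app_sub, Orth.app_inv_app, he, Orth.app_inv_app]
      exact hx
    have hL : Function.Surjective L := LinearMap.injective_iff_surjective.mp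
      ((injective_iff_map_eq_zero _).mpr fun v hv => Subtype.ext (hfree _ v.2 (by
        have h1 : T v = 0 := congrArg Subtype.val hv
        rw [hT, sub_eq_zero] at h1
        simpa using congrArg (Orth.app g) h1)))
    intro x hx
    obtain ⟨y, hy⟩ := hL ⟨x, hx⟩
    refine ⟨y, y.2, ?_⟩
    have h1 : T y = x := congrArg Subtype.val hy
    rw [hT] at h1
    have h2 := congrArg (Orth.app g) h1
    rwa [Orth.app_sub, Orth.app_app_inv] at h2
  by_cases hmove : ∃ n, σ n ≠ n
  · exfalso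
    obtain ⟨n, hn⟩ := hmove
    -- the image is filled by the displacements of one moved summand
    have full : ∀ n, σ n ≠ n → ∀ x ∈ D a, ∃ y ∈ D n, Orth.app z y - y = Orth.app g x := by
      intro n hn
      let T := Matrix.mulVecLin ((z : GL ι F) : Matrix ι ι F) - LinearMap.id
      have hT : ∀ v, T v = Orth.app z v - v := fun v => rfl
      let L : D n →ₗ[F] D a :=
        (((Matrix.mulVecLin ((g⁻¹ : ↥(Cfsg.isometryGroup F ⇑Q)) : GL ι F).val).comp T).comp
          (D n).subtype).codRestrict (D a) fun v => by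
            obtain ⟨x, hx, he⟩ := hzP (v : Vs)
            show Orth.app g⁻¹ (T v) ∈ D a
            rw [hT, he, Orth.app_inv_app]; exact hx
      have hinj : Function.Injective L := (injective_iff_map_eq_zero _).mpr fun v hv => Subtype.ext (by
        have h1 : Orth.app g⁻¹ (T v) = 0 := congrArg Subtype.val hv
        have h2 : T v = 0 := Orth.app_injective g⁻¹ (h1.trans (Orth.app_zero _).symm)
        rw [hT, sub_eq_zero] at h2
        exact C.dec.disjoint (Ne.symm hn) v.2 (h2 ▸ hσ n _ v.2))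
      have hs : Function.Surjective L :=
        (LinearMap.injective_iff_surjective_of_finrank_eq_finrank (by rw [C.dec.finrank_eq, C.dec.finrank_eq])).mp hinj
      intro x hx
      obtain ⟨y, hy⟩ := hs ⟨x, hx⟩
      refine ⟨y, y.2, ?_⟩
      have h1 : Orth.app g⁻¹ (T y) = x := congrArg Subtype.val hy
      rw [← h1, Orth.app_app_inv, hT]
    have hz : ∀ n, σ n ≠ n → ∀ x ∈ D a, C.dec.proj n (Orth.app g x) = 0 → Orth.app g x = 0 := by
      intro n hn x hx h0
      obtain ⟨y, hy, he⟩ := full n hn x hx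
      rw [← he, map_sub, C.dec.proj_of_mem_ne (Ne.symm hn) (hσ n y hy), C.dec.proj_of_mem hy, zero_sub,
        neg_eq_zero] at h0
      rw [← he, h0, Orth.app_zero, sub_zero]
    have hσn : σ (σ n) ≠ σ n := fun e => hn (σ.injective e)
    have hback : σ (σ n) = n := by
      by_contra hne
      obtain ⟨y, hy, hy0⟩ := exists_mem_notMem (S := D (σ n)) (T := ⊥) (by rw [finrank_bot, C.dec.finrank_eq]; omega)
      obtain ⟨x, hx, he⟩ := hzP y
      have h1 := hz n hn x hx (by rw [← he]; exact proj_eq_zero_of_pair C.dec (Ne.symm hne) (Ne.symm hn) (hσ _ y hy) hy)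
      rw [h1, sub_eq_zero] at he
      exact hy0 (by rw [Submodule.mem_bot]; exact C.dec.disjoint (Ne.symm hσn) hy (he ▸ hσ _ y hy))
    have htwo : ∀ n, σ n ≠ n → σ (σ n) = n → ∀ y ∈ D n, Orth.app z (Orth.app z y) = y := by
      intro n hn hback y hy
      obtain ⟨x₁, hx₁, he₁⟩ := hzP (Orth.app z y)
      obtain ⟨x₂, hx₂, he₂⟩ := hzP y
      have he : Orth.app g (x₁ + x₂) = Orth.app z (Orth.app z y) - y := by
        rw [Orth.app_add, ← he₁, ← he₂]; abel
      have hzz : Orth.app z (Orth.app z y) ∈ D n := by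
        have := hσ _ _ (hσ n y hy); rwa [hback] at this
      have h1 := hz (σ n) (fun e => hn (σ.injective e)) _ ((D a).add_mem hx₁ hx₂) (by
        rw [he]; exact proj_eq_zero_of_pair C.dec hn hn hzz hy)
      exact sub_eq_zero.mp (he ▸ h1)
    have hall : ∀ i, ∀ y ∈ D i, Orth.app z (Orth.app z y) = y := by
      intro i y hy
      by_cases h1 : i = n
      · subst h1; exact htwo i hn hback y hy
      by_cases h2 : i = σ n
      · subst h2; exact htwo (σ n) hσn (by rw [hback]) y hy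
      have hσi : σ i ≠ n := fun e => h2 (σ.injective (by rw [e, hback]))
      have hfix : Orth.app z y = y := by
        obtain ⟨x, hx, he⟩ := hzP y
        have h3 := hz n hn x hx (by rw [← he]; exact proj_eq_zero_of_pair C.dec (Ne.symm hσi) (Ne.symm h1) (hσ i y hy) hy)
        rwa [h3, sub_eq_zero] at he
      rw [hfix, hfix]
    obtain ⟨x, hx, hne⟩ := hord
    apply hne
    rw [hlin z (Orth.app z (Orth.app g x)), hlin z (Orth.app g x)]
    conv_lhs => rw [← C.dec.sum_proj (Orth.app g x), map_sum, map_sum]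
    conv_rhs => rw [← C.dec.sum_proj (Orth.app g x)]
    exact Finset.sum_congr rfl fun i _ => hall i _ (C.dec.proj_mem i _)
  push Not at hmove
  have hσ1 : ∀ i, ∀ x ∈ D i, Orth.app z x ∈ D i := fun i x hx => by
    have := hσ i x hx; rwa [hmove i] at this
  set P := (D a).map (Matrix.mulVecLin ((g : GL ι F) : Matrix ι ι F)) with hP
  have hPrank : Module.finrank F P = 2 := by
    rw [hP, ← (Submodule.equivMapOfInjective _ (ap_injective _) (D a)).finrank_eq, C.dec.finrank_eq]
  have hprojP : ∀ x ∈ D a, ∀ n, C.dec.proj n (Orth.app g x) ∈ P := by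
    intro x hx n
    obtain ⟨y, hy, he⟩ := hsurj x hx
    rw [← he, map_sub]
    have h1 := proj_app C.dec (g := z) (σ := σ) hσ n (Orth.app g y)
    rw [hmove n] at h1
    rw [h1]
    obtain ⟨x', hx', he'⟩ := hzP (C.dec.proj n (Orth.app g y))
    rw [he']; exact ⟨x', hx', rfl⟩
  by_contra hcon
  push Not at hcon
  -- two lines
  obtain ⟨n, p, hpP, hp0, hpn⟩ : ∃ n, ∃ p ∈ P, p ≠ 0 ∧ p ∈ D n := by
    obtain ⟨x, hx, hx0⟩ := exists_mem_notMem (S := D a) (T := ⊥) (by rw [finrank_bot, C.dec.finrank_eq]; omega)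
    obtain ⟨n, hn⟩ := supp_nonempty (h := C.dec) (v := Orth.app g x) fun e =>
      hx0 (by rw [Submodule.mem_bot]; exact Orth.app_injective g (e.trans (Orth.app_zero g).symm))
    exact ⟨n, _, hprojP x hx n, mem_supp.mp hn, C.dec.proj_mem n _⟩
  obtain ⟨x, hx, hxn⟩ := hcon n
  obtain ⟨m, hmn, hm⟩ : ∃ m, m ≠ n ∧ C.dec.proj m (Orth.app g x) ≠ 0 := by
    by_contra hc
    push Not at hc
    exact hxn (C.dec.mem_of_proj hc)
  set q := C.dec.proj m (Orth.app g x) with hq
  have hqP : q ∈ P := hprojP x hx m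
  have hqm : q ∈ D m := C.dec.proj_mem m _
  have hli : LinearIndependent F ![p, q] := linearIndependent_pair_of_notMem hp0 fun hmem => by
    obtain ⟨c, hc⟩ := Submodule.mem_span_singleton.mp hmem
    exact hm (C.dec.disjoint hmn hqm (by rw [← hc]; exact (D n).smul_mem _ hpn))
  have hcomb : ∀ v ∈ P, ∃ α β : F, v = α • p + β • q := by
    intro v hv
    have hle : Submodule.span F (Set.range ![p, q]) ≤ P :=
      Submodule.span_le.mpr (by rintro _ ⟨o, rfl⟩; fin_cases o <;> assumption)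
    rw [← Submodule.eq_of_le_of_finrank_eq hle (by rw [finrank_span_eq_card hli, hPrank]; rfl), Matrix.range_cons,
      Matrix.range_cons, Matrix.range_empty, Set.union_empty, Set.singleton_union, Submodule.mem_span_pair] at hv
    obtain ⟨α, β, e⟩ := hv
    exact ⟨α, β, e.symm⟩
  have hnondegP : ∀ v ∈ P, v ≠ 0 → ∃ v' ∈ P, polar ⇑Q v v' ≠ 0 := by
    rintro _ ⟨y, hy, rfl⟩ hv0
    obtain ⟨y', hy', hne⟩ := C.dec.exists_ne hy fun e => hv0 (by rw [e, map_zero])
    exact ⟨_, ⟨y', hy', rfl⟩, by rw [← hlin, ← hlin, Orth.polar_app]; exact hne⟩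
  have honP : ∀ v, v ∈ P → Orth.app z v ∈ P := fun v hv => by
    obtain ⟨x', hx', he⟩ := hzP v
    rw [eq_add_of_sub_eq he]
    exact P.add_mem ⟨x', hx', rfl⟩ hv
  have hsq : ∀ (n : Fin t) (v : Vs), v ∈ P → v ∈ D n → (∀ r ∈ P, r ∈ D n → ∃ c : F, r = c • v) →
      (∀ v' ∈ P, polar ⇑Q v v' ≠ 0 → polar ⇑Q v v ≠ 0) → v ≠ 0 → Orth.app z (Orth.app z v) = v := by
    intro n v hv hvn honly hdiag hv0
    obtain ⟨c, hc⟩ := honly _ (honP v hv) (hσ1 n v hvn)
    obtain ⟨v', hv', hne⟩ := hnondegP v hv hv0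
    have hvv := hdiag v' hv' hne
    have hcc : c * c = 1 := by
      have h1 := Orth.polar_app z v v
      rw [hc, polar_smul_left, polar_smul_right, smul_eq_mul, smul_eq_mul, ← mul_assoc] at h1
      exact (mul_eq_right₀ hvv).mp h1
    rw [hc, Orth.app_smul, hc, smul_smul, hcc, one_smul]
  have hpq : polar ⇑Q p q = 0 := C.dec.orth (Ne.symm hmn) hpn hqm
  obtain ⟨w, hw, hne⟩ := hord
  apply hne
  obtain ⟨α, β, he⟩ := hcomb _ ⟨w, hw, rfl⟩
  have hn1 : ∀ r ∈ P, r ∈ D n → ∃ c : F, r = c • p := fun r hr hrn => by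
    obtain ⟨α, β, rfl⟩ := hcomb r hr
    refine ⟨α, ?_⟩
    have h1 : β • q ∈ D n := by simpa using (D n).sub_mem hrn ((D n).smul_mem α hpn)
    rw [C.dec.disjoint hmn ((D m).smul_mem _ hqm) h1, add_zero]
  have hn2 : ∀ v' ∈ P, polar ⇑Q p v' ≠ 0 → polar ⇑Q p p ≠ 0 := fun v' hv' hne' => by
    obtain ⟨α, β, rfl⟩ := hcomb v' hv'
    rw [polar_add_right, polar_smul_right, polar_smul_right, hpq, smul_zero, add_zero] at hne'
    exact fun h0 => hne' (by rw [h0, smul_zero])
  have hm1 : ∀ r ∈ P, r ∈ D m → ∃ c : F, r = c • q := fun r hr hrm => by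
    obtain ⟨α, β, rfl⟩ := hcomb r hr
    refine ⟨β, ?_⟩
    have h1 : α • p ∈ D m := by simpa using (D m).sub_mem hrm ((D m).smul_mem β hqm)
    rw [C.dec.disjoint (Ne.symm hmn) ((D n).smul_mem _ hpn) h1, zero_add]
  have hm2 : ∀ v' ∈ P, polar ⇑Q q v' ≠ 0 → polar ⇑Q q q ≠ 0 := fun v' hv' hne' => by
    obtain ⟨α, β, rfl⟩ := hcomb v' hv'
    rw [polar_add_right, polar_smul_right, polar_smul_right, polar_comm _ q p, hpq, smul_zero, zero_add] at hne'
    exact fun h0 => hne' (by rw [h0, smul_zero])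
  rw [hlin g w, he, Orth.app_add, Orth.app_smul, Orth.app_smul, Orth.app_add, Orth.app_smul, Orth.app_smul,
    hsq n p hpP hpn hn1 hn2 hp0, hsq m q hqP hqm hm1 hm2 hm]

/-- An element not permuting the summands forces `Ω`. -/
theorem omega_of_not_pres {g : ↥(Cfsg.isometryGroup F ⇑Q)} (hg : (g : GL ι F) ∈ M) (hnp : ¬ Pres Q D g) :
    Cfsg.Geo.omegaGL ⇑Q ≤ M := by
  classical
  by_contra hΩ
  have hfix : ∀ {l : Fin t} {w : Vs}, w ∈ D l → Q w ≠ 0 → ∀ x : ↥(Cfsg.isometryGroup F ⇑Q),
      (x : GL ι F) ∈ M → Orth.app x w = w → Pres Q D x := fun hw hwQ x hx he => by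
    by_contra hp; exact hΩ (C.omega_of_fix hw hwQ hx he hp)
  -- no summand meets the perpendicular space of an image which is not a summand
  have hinj : ∀ a, (¬ ∃ n, ∀ x ∈ D a, Orth.app g x ∈ D n) → ∀ l, ∀ w ∈ D l,
      (∀ u ∈ D a, polar ⇑Q (Orth.app g u) w = 0) → w = 0 := by
    intro a ha l w hw hperp
    by_contra hw0
    obtain ⟨h, hh, hhD, hhfix, hhfree, ⟨x₁, hx₁, hx₁'⟩, -⟩ := C.exists_rot a
    set z := g * h * g⁻¹ with hz
    have hzM : (z : GL ι F) ∈ M := M.mul_mem (M.mul_mem hg hh) (M.inv_mem hg)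
    have hzapp : ∀ y, Orth.app z y = Orth.app g (Orth.app h (Orth.app g⁻¹ y)) := fun y => by
      rw [hz, Orth.app_mul, Orth.app_mul]
    have hzP : ∀ y, ∃ x ∈ D a, Orth.app z y - y = Orth.app g x := by
      intro y
      refine ⟨Orth.app h (Orth.app g⁻¹ y) - Orth.app g⁻¹ y, ?_,
        by rw [hzapp, Orth.app_sub, Orth.app_app_inv]⟩
      show Matrix.mulVecLin ((h : GL ι F) : Matrix ι ι F) _ - _ ∈ _
      conv => arg 2; rw [← C.dec.sum_proj (Orth.app g⁻¹ y)]
      rw [map_sum, ← Finset.sum_sub_distrib]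
      refine (D a).sum_mem fun j _ => ?_
      by_cases hj : j = a
      · subst hj; exact (D j).sub_mem (hhD j _ (C.dec.proj_mem j _)) (C.dec.proj_mem j _)
      · show Orth.app h _ - _ ∈ _
        rw [hhfix j hj _ (C.dec.proj_mem j _), sub_self]; exact (D a).zero_mem
    have hzfix : ∀ y, (∀ u ∈ D a, polar ⇑Q (Orth.app g u) y = 0) → Orth.app z y = y := by
      intro y hy
      have h0 : C.dec.proj a (Orth.app g⁻¹ y) = 0 := C.dec.proj_eq (D a).zero_mem fun u hu => by
        rw [polar_zero_left, polar_comm, ← Orth.polar_app g, Orth.app_app_inv, hy u hu]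
      rw [hzapp]
      have h1 : Orth.app h (Orth.app g⁻¹ y) = Orth.app g⁻¹ y := by
        show Matrix.mulVecLin ((h : GL ι F) : Matrix ι ι F) _ = _
        conv_lhs => rw [← C.dec.sum_proj (Orth.app g⁻¹ y), map_sum]
        conv_rhs => rw [← C.dec.sum_proj (Orth.app g⁻¹ y)]
        refine Finset.sum_congr rfl fun j _ => ?_
        by_cases hj : j = a
        · subst hj; rw [h0, map_zero]
        · exact hhfix j hj _ (C.dec.proj_mem j _)
      rw [h1, Orth.app_app_inv]
    have hzw := hzfix w hperp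
    have hpres : Pres Q D z := by
      by_cases hwQ : Q w = 0
      swap
      · exact hfix hw hwQ z hzM hzw
      have hzD : ∀ x ∈ D l, Orth.app z x ∈ D l := fun x hx => by
        by_contra hout
        exact hΩ (C.omega_of_sing hw hw0 hwQ hzM hzw hx hout)
      obtain ⟨f, hf, hfQ, hwf⟩ := C.dec.exists_partner C.nondeg hw hw0 hwQ
      have hzf : Orth.app z f = f := by
        have h1 : polar ⇑Q w (Orth.app z f) = 1 := by
          conv_lhs => arg 2; rw [← hzw]
          rw [Orth.polar_app, hwf]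
        rcases singular_cases C.dec hw hf (hzD f hf) hwQ hfQ (by rw [Orth.Q_app, hfQ])
          (hwf ▸ one_ne_zero) with ⟨c, hc⟩ | ⟨c, hc⟩
        · rw [hc, polar_smul_right, polar_self, hwQ] at h1; simp at h1
        · rw [hc, polar_smul_right, hwf, smul_eq_mul, mul_one] at h1
          rw [hc, h1, one_smul]
      refine hfix (l := l) (w := w + f) ((D l).add_mem hw hf) ?_ z hzM (by rw [Orth.app_add, hzw, hzf])
      rw [QuadraticMap.map_add (⇑Q), hwQ, hfQ, hwf]; simp
    refine ha (C.image_mem_of_pres g z a hzP (fun x hx he => hhfree x hx ?_) ⟨x₁, hx₁, fun he => hx₁' ?_⟩ hpres)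
    · rw [hzapp, Orth.app_inv_app] at he; exact Orth.app_injective g he
    · rw [hzapp, hzapp, Orth.app_inv_app, Orth.app_inv_app] at he; exact Orth.app_injective g he
  obtain ⟨a₀, ha₀⟩ : ∃ a, ¬ ∃ n, ∀ x ∈ D a, Orth.app g x ∈ D n := by
    by_contra hc
    push Not at hc
    exact hnp (pres_of_maps C.dec g hc)
  have hall : ∀ a, ¬ ∃ n, ∀ x ∈ D a, Orth.app g x ∈ D n := by
    rintro a ⟨n, hn⟩
    by_cases haa : a = a₀
    · exact ha₀ (haa ▸ ⟨n, hn⟩)
    obtain ⟨x, hx, hx0⟩ := exists_mem_notMem (S := D a) (T := ⊥) (by rw [finrank_bot, C.dec.finrank_eq]; omega)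
    have := hinj a₀ ha₀ n _ (hn x hx) fun u hu => by rw [Orth.polar_app, C.dec.orth (Ne.symm haa) hu hx]
    exact hx0 (by rw [Submodule.mem_bot]; exact Orth.app_injective g (this.trans (Orth.app_zero g).symm))
  have hinj' : ∀ a l, ∀ w ∈ D l, C.dec.proj a (Orth.app g⁻¹ w) = 0 → w = 0 := fun a l w hw h0 =>
    hinj a (hall a) l w hw fun u hu => by
      rw [← Orth.app_app_inv g w, Orth.polar_app, ← C.dec.polar_proj' hu, h0, polar_zero_right]
  -- a pair of images fixing a vector of a summand is impossible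
  have hpair : ∀ a c : Fin t, a ≠ c → ∀ u ∈ D a, ∀ v ∈ D c, ∀ (hu : Q u ≠ 0) (hv : Q v ≠ 0),
      IsSquare (Q u * Q v) → ∀ l, ∀ w ∈ D l, Q w ≠ 0 → polar ⇑Q (Orth.app g u) w = 0 →
        polar ⇑Q (Orth.app g v) w = 0 → False := by
    intro a c hac u huD v hvD hu hv hs l w hw hwQ hwu hwv
    set P := Orth.app g u with hP
    set P' := Orth.app g v with hP'
    have hPQ : Q P ≠ 0 := by rwa [hP, Orth.Q_app]
    have hP'Q : Q P' ≠ 0 := by rwa [hP', Orth.Q_app]
    have huv : polar ⇑Q P P' = 0 := by rw [hP, hP', Orth.polar_app, C.dec.orth hac huD hvD]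
    set x := Orth.refl Q P hPQ * Orth.refl Q P' hP'Q with hx
    have hxM : (x : GL ι F) ∈ M := by
      have e : x = g * (Orth.refl Q u hu * Orth.refl Q v hv) * g⁻¹ := by
        rw [hx, ← Orth.conj_refl g hu, ← Orth.conj_refl g hv]
        simp only [mul_assoc, inv_mul_cancel_left]
      rw [e]
      exact M.mul_mem (M.mul_mem hg (C.pair_mem huD hvD hu hv hs)) (M.inv_mem hg)
    have hxw : Orth.app x w = w := by
      rw [hx, Orth.app_mul, Orth.app_refl_of_polar_eq_zero hP'Q hwv, Orth.app_refl_of_polar_eq_zero hPQ hwu]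
    obtain ⟨σ, hσ⟩ := hfix hw hwQ x hxM hxw
    have hxS : ∀ y, Orth.app x y - y ∈ Submodule.span F {P, P'} := fun y => by
      rw [Submodule.mem_span_pair]
      refine ⟨-((Q P)⁻¹ * polar ⇑Q P y), -((Q P')⁻¹ * polar ⇑Q P' y), ?_⟩
      rw [hx, Orth.app_mul, Orth.app_refl hP'Q, Orth.app_sub, Orth.app_smul, Orth.app_refl hPQ,
        Orth.app_refl_of_polar_eq_zero hPQ huv]
      module
    obtain ⟨k, hk⟩ : ∃ k, C.dec.proj k P = 0 := by
      by_cases hmove : ∃ n, σ n ≠ n
      · obtain ⟨n, hn⟩ := hmove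
        obtain ⟨k, hk⟩ := exists_notMem_finset ({n, σ n} : Finset (Fin t)) (by
          have := Finset.card_le_two (a := n) (b := σ n); have := C.big; omega)
        simp only [Finset.mem_insert, Finset.mem_singleton, not_or] at hk
        refine ⟨k, ?_⟩
        let T : D n →ₗ[F] (Submodule.span F {P, P'} : Submodule F Vs) :=
          ((Matrix.mulVecLin ((x : GL ι F) : Matrix ι ι F) - LinearMap.id).comp (D n).subtype).codRestrict _
            fun y => hxS y
        have hTinj : Function.Injective T := (injective_iff_map_eq_zero _).mpr fun y hy => Subtype.ext (by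
          have h1 : Orth.app x (y : Vs) - y = 0 := congrArg Subtype.val hy
          exact C.dec.disjoint (Ne.symm hn) y.2 (sub_eq_zero.mp h1 ▸ hσ n _ y.2))
        have hle := LinearMap.finrank_le_finrank_of_injective hTinj
        have hspan := finrank_span_pair_le (F := F) P P'
        rw [C.dec.finrank_eq] at hle
        have hTs := (LinearMap.injective_iff_surjective_of_finrank_eq_finrank
          (by rw [C.dec.finrank_eq]; omega)).mp hTinj
        obtain ⟨y, hy⟩ := hTs ⟨P, Submodule.subset_span (by simp)⟩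
        have h1 : Orth.app x (y : Vs) - y = P := congrArg Subtype.val hy
        rw [← h1]
        exact proj_eq_zero_of_pair C.dec hk.2 hk.1 (hσ n _ y.2) y.2
      push Not at hmove
      by_contra hc
      push Not at hc
      have hli : LinearIndependent F ![P, P'] := linearIndependent_pair_of_notMem
        (fun e => hPQ (by rw [e, QuadraticMap.map_zero])) fun hm => by
          obtain ⟨r, hr⟩ := Submodule.mem_span_singleton.mp hm
          have h1 := congrArg (Orth.app g⁻¹) hr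
          rw [Orth.app_smul, hP, hP', Orth.app_inv_app, Orth.app_inv_app] at h1
          exact hv (by rw [C.dec.disjoint (Ne.symm hac) hvD (h1 ▸ (D a).smul_mem r huD), QuadraticMap.map_zero])
      obtain ⟨y, hy⟩ := Forms.exists_polar_eq C.nondeg hli ![-Q P, 0]
      have hyP : polar ⇑Q P y = -Q P := hy 0
      have hyP' : polar ⇑Q P' y = 0 := hy 1
      have hPy : Orth.app x y - y = P := by
        rw [hx, Orth.app_mul, Orth.app_refl_of_polar_eq_zero hP'Q hyP', Orth.app_refl, hyP]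
        field_simp
        module
      have hk : ∀ n, C.dec.proj n P ∈ Submodule.span F {P, P'} := fun n => by
        rw [← hPy, map_sub]
        have h1 := proj_app C.dec hσ n y
        rw [hmove n] at h1
        rw [h1, hPy]
        exact hxS _
      obtain ⟨S, -, hS⟩ := Finset.exists_subset_card_eq (s := (Finset.univ : Finset (Fin t))) (n := 3)
        (by have := C.big; simp; omega)
      have hind : LinearIndependent F fun i : S => (⟨C.dec.proj i P, hk i⟩ : (Submodule.span F {P, P'} : Submodule F Vs)) := by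
        rw [Fintype.linearIndependent_iff]
        intro c' hsum i
        have h1 : ∑ j : S, c' j • C.dec.proj j P = 0 := by
          simpa using congrArg Subtype.val hsum
        have h2 := congrArg (C.dec.proj i) h1
        rw [map_sum, map_zero, Finset.sum_eq_single i (fun j _ hj => by
          rw [map_smul, C.dec.proj_of_mem_ne (fun e => hj (Subtype.ext e.symm)) (C.dec.proj_mem j P), smul_zero])
          (by simp), map_smul, C.dec.proj_of_mem (C.dec.proj_mem i P)] at h2
        exact (smul_eq_zero.mp h2).resolve_right (hc i)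
      have := hind.fintype_card_le_finrank
      have := finrank_span_pair_le (F := F) P P'
      simp only [Fintype.card_coe] at *
      omega
    -- a summand meeting the perpendicular space of the image
    obtain ⟨u₂, hu₂, hu₂'⟩ := exists_mem_notMem (S := D a) (T := F ∙ u) (by
      rw [finrank_span_singleton (fun e => hu (by rw [e, QuadraticMap.map_zero])), C.dec.finrank_eq]; omega)
    obtain ⟨w', hw', hw'0, hw'u⟩ := exists_perp C.dec (i := k) (Orth.app g u₂)
    refine hw'0 (hinj a (hall a) k w' hw' fun y hy => ?_)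
    obtain ⟨α, β, rfl⟩ := mem_pair C.dec huD hu₂
      (linearIndependent_pair_of_notMem (fun e => hu (by rw [e, QuadraticMap.map_zero])) hu₂') hy
    rw [Orth.app_add, Orth.app_smul, Orth.app_smul, polar_add_left, polar_smul_left, polar_smul_left, hw'u,
      ← hP, ← C.dec.polar_proj hw' P, hk, polar_zero_left, smul_zero, smul_zero, add_zero]
  -- choose four images and a non-singular vector good for three of them
  let l : Fin t := ⟨0, by have := C.big; omega⟩
  obtain ⟨A, -, hA⟩ := Finset.exists_subset_card_eq (s := (Finset.univ : Finset (Fin t))) (n := 4)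
    (by have := C.big; simp; omega)
  let L : Fin t → Vs →ₗ[F] Vs := fun a =>
    (C.dec.proj a).comp (Matrix.mulVecLin ((g⁻¹ : ↥(Cfsg.isometryGroup F ⇑Q)) : GL ι F).val)
  obtain ⟨w, hw, hwQ, hgood⟩ : ∃ w ∈ D l, Q w ≠ 0 ∧ (A.filter fun a => Q (L a w) = 0).card ≤ 1 := by
    rcases C.field with hq | ⟨han, -⟩
    swap
    · obtain ⟨w, hw, hwQ⟩ := exists_nonsing C.dec l
      refine ⟨w, hw, hwQ, ?_⟩
      rw [Finset.filter_false_of_mem, Finset.card_empty]; · omega
      intro a _ h0
      exact hwQ (by rw [hinj' a l w hw (han a _ (C.dec.proj_mem a _) h0), QuadraticMap.map_zero])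
    obtain ⟨w₀, hw₀, hw₀Q⟩ := exists_nonsing C.dec l
    obtain ⟨w₁, hw₁, -, hli, -⟩ := exists_dual_indep C.dec C.nondeg hw₀ hw₀Q
    set v : Option F → Vs := fun o => o.elim w₁ fun s => w₀ + s • w₁ with hv
    have hvD : ∀ o, v o ∈ D l := fun o => by
      cases o with
      | none => exact hw₁
      | some s => exact (D l).add_mem hw₀ ((D l).smul_mem _ hw₁)
    by_contra hc
    push Not at hc
    set N := Finset.univ.filter fun o : Option F => Q (v o) ≠ 0 with hN
    have h1 : Fintype.card F + 1 ≤ N.card + 2 := by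
      have h2 := card_sing_le C.dec C.nondeg (l := l) (a := l) LinearMap.id (fun x hx => hx) (fun x _ hx => hx)
        hw₀ hw₁ hli
      have h3 := Finset.card_filter_add_card_filter_not (s := (Finset.univ : Finset (Option F)))
        (fun o : Option F => Q (v o) = 0)
      rw [Finset.card_univ, Fintype.card_option] at h3
      simp only [LinearMap.id_apply] at h2
      simp only [hN, hv, ne_eq] at h3 ⊢
      omega
    have h4 : N.card * 2 ≤ ∑ o ∈ N, (A.filter fun a => Q (L a (v o)) = 0).card := by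
      refine (le_of_eq ?_).trans (Finset.card_nsmul_le_sum N _ 2 fun o ho => ?_)
      · simp [mul_comm]
      · exact hc (v o) (hvD o) (Finset.mem_filter.mp ho).2
    have h5 : ∑ o ∈ N, (A.filter fun a => Q (L a (v o)) = 0).card ≤ 8 := by
      simp only [Finset.card_filter]
      rw [Finset.sum_comm]
      refine (Finset.sum_le_card_nsmul A _ 2 fun a _ => ?_).trans (by rw [hA]; rfl)
      rw [← Finset.card_filter]
      exact (Finset.card_le_card fun o ho => Finset.mem_filter.mpr ⟨Finset.mem_univ _, (Finset.mem_filter.mp ho).2⟩).trans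
        (card_sing_le C.dec C.nondeg (L a) (fun x _ => C.dec.proj_mem a _) (fun x hx h0 => hinj' a l x hx h0)
          hw₀ hw₁ hli)
    omega
  have hthree : 3 ≤ (A.filter fun a => Q (L a w) ≠ 0).card := by
    have := Finset.card_filter_add_card_filter_not (s := A) (fun a => Q (L a w) = 0)
    simp only [ne_eq]
    omega
  obtain ⟨a₁, h1, a₂, h2, a₃, h3, h12, h13, h23⟩ := Finset.two_lt_card.mp hthree
  have hget : ∀ a ∈ A.filter (fun a => Q (L a w) ≠ 0),
      ∃ u ∈ D a, Q u ≠ 0 ∧ polar ⇑Q (Orth.app g u) w = 0 := by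
    intro a ha
    have hy : Q (L a w) ≠ 0 := (Finset.mem_filter.mp ha).2
    obtain ⟨u, hu, hu0, hyu⟩ := exists_perp C.dec (i := a) (L a w)
    refine ⟨u, hu, Q_perp_ne C.dec C.nondeg (C.dec.proj_mem a _) hy hu hu0 hyu, ?_⟩
    rw [← Orth.app_app_inv g w, Orth.polar_app, polar_comm, ← C.dec.polar_proj hu]
    exact hyu
  obtain ⟨u₁, hu₁, hq₁, hp₁⟩ := hget a₁ h1
  obtain ⟨u₂, hu₂, hq₂, hp₂⟩ := hget a₂ h2
  obtain ⟨u₃, hu₃, hq₃, hp₃⟩ := hget a₃ h3
  by_cases s12 : IsSquare (Q u₁ * Q u₂)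
  · exact hpair a₁ a₂ h12 u₁ hu₁ u₂ hu₂ hq₁ hq₂ s12 l w hw hwQ hp₁ hp₂
  by_cases s13 : IsSquare (Q u₁ * Q u₃)
  · exact hpair a₁ a₃ h13 u₁ hu₁ u₃ hu₃ hq₁ hq₃ s13 l w hw hwQ hp₁ hp₃
  refine hpair a₂ a₃ h23 u₂ hu₂ u₃ hu₃ hq₂ hq₃ ?_ l w hw hwQ hp₂ hp₃
  have hsq := isSquare_mul_of_not s12 s13
  have e : Q u₂ * Q u₃ = Q u₁ * Q u₂ * (Q u₁ * Q u₃) * ((Q u₁)⁻¹ * (Q u₁)⁻¹) := by field_simp
  rw [e]
  exact hsq.mul ⟨_, rfl⟩

end Cfg

/-- The stabiliser of an orthogonal decomposition into planes is maximal. -/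
theorem isMaximalIn_planes (hQ : (QuadraticMap.polarBilin Q).Nondegenerate) (h : Dec Q 2 D) (ht : 7 ≤ t)
    (hiso : ∀ i j, Cfsg.Geo.AreIsometricFor (⇑Q) (D i) (D j))
    (hfield : 7 ≤ Fintype.card F ∨ ((∀ i, ∀ x ∈ D i, Q x = 0 → x = 0) ∧ Fintype.card F ≠ 3)) :
    Cfsg.Geo.IsMaximalIn (Cfsg.Geo.omegaGL ⇑Q)
      (Cfsg.Geo.decompositionStabilizer D ⊓ Cfsg.Geo.omegaGL ⇑Q) := by
  classical
  have hpres : ∀ g : ↥(Cfsg.isometryGroup F ⇑Q), Pres Q D g →
      (g : GL ι F) ∈ Cfsg.Geo.decompositionStabilizer D := fun g ⟨σ, hσ⟩ => mem_decompositionStabilizer h σ hσ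
  refine ⟨lt_of_le_of_ne inf_le_right fun heq => ?_, fun M hHM hMΩ => ?_⟩
  · -- an Eichler element moves the summands
    have C : Cfg Q D (Cfsg.Geo.omegaGL ⇑Q) := ⟨hQ, h, ht, hiso, hfield, inf_le_right, le_rfl⟩
    have hn := C.card_ge
    obtain ⟨S, -, hS⟩ := Finset.exists_subset_card_eq (s := (Finset.univ : Finset (Fin t))) (n := 3)
      (by simp; omega)
    obtain ⟨i, hi⟩ := Finset.card_pos.mp (show 0 < S.card by omega)
    obtain ⟨j, hj⟩ := exists_notMem_finset S (by omega)
    obtain ⟨a, ha, haQ⟩ := exists_nonsing h i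
    obtain ⟨v, hv, hvQ⟩ := C.value j haQ
    -- a singular vector with several components
    set u : Vs := ∑ k ∈ S, (C.value k haQ).choose with hu
    have huproj : ∀ k, h.proj k u = if k ∈ S then (C.value k haQ).choose else 0 :=
      proj_sum h fun k _ => (C.value k haQ).choose_spec.1
    obtain ⟨T, d, hT, hTS, hd, hsum⟩ := C.exists_shift ha haQ hS (u := u) fun k hk => by
      rw [huproj, if_pos hk, (C.value k haQ).choose_spec.2]; exact haQ
    obtain ⟨heQ, -, hsupp, he0, -⟩ := C.shift_facts ha haQ hT hd hsum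
    set e := Cfg.shift (Q := Q) u T d
    have hje : h.proj j e = 0 := not_mem_supp.mp (by rw [hsupp]; exact fun hh => hj (hTS hh))
    have hev : polar ⇑Q e v = 0 := by rw [← h.polar_proj hv, hje, polar_zero_left]
    have hm : eichlerGL Q e v heQ hev ∈ Cfsg.Geo.decompositionStabilizer D ⊓ Cfsg.Geo.omegaGL ⇑Q := by
      rw [heq]; exact SingMax.E_mem_omega hQ hn heQ hev
    obtain ⟨σ, hσ⟩ := hm.1
    have hv0 : v ≠ 0 := fun e0 => haQ (by rw [← hvQ, e0, QuadraticMap.map_zero])
    obtain ⟨m, hmT⟩ := hT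
    have hmsupp : m ∈ supp h e := hsupp.symm ▸ hmT
    obtain ⟨y, hy, hey⟩ := exists_dual h hQ (h.proj_mem m e) (mem_supp.mp hmsupp)
    rw [h.polar_proj hy] at hey
    have h1 : ap (eichlerGL Q e v heQ hev) y ∈ D (σ m) := hσ m ▸ ⟨y, hy, Matrix.toLin'_apply _ _⟩
    have hmj : m ≠ j := fun e' => hj (e' ▸ hTS hmT)
    rw [ap_E, R, hey, one_smul, polar_comm _ v y, h.orth hmj hy hv, zero_add, mul_one] at h1
    -- the image has a component in the free summand
    have hjσ : j = σ m := by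
      by_contra hne
      have h2 := h.proj_of_mem_ne hne h1
      rw [map_add, map_sub, map_smul, h.proj_of_mem_ne (Ne.symm hmj) hy, h.proj_of_mem hv, hje, smul_zero,
        sub_zero, zero_add] at h2
      exact hv0 h2
    obtain ⟨m', hm', hm'm⟩ : ∃ m' ∈ T, m' ≠ m := by
      by_contra hc
      push Not at hc
      rw [show T = {m} from Finset.eq_singleton_iff_unique_mem.mpr ⟨hmT, hc⟩, Finset.sum_singleton] at hsum
      obtain ⟨-, hd1, hd2⟩ := hd m hmT
      exact mul_ne_zero (inv_ne_zero hd1) (mul_ne_zero hd2 hd2) hsum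
    have hm'j : m' ≠ j := fun e' => hj (e' ▸ hTS hm')
    have h7 := h.proj_of_mem_ne (hjσ ▸ hm'j) h1
    rw [map_add, map_sub, map_smul, h.proj_of_mem_ne hm'm hy, h.proj_of_mem_ne hm'j hv, zero_sub, zero_add,
      neg_eq_zero, smul_eq_zero] at h7
    exact h7.elim (fun h0 => haQ (hvQ ▸ h0)) (mem_supp.mp (hsupp.symm ▸ hm'))
  have C : Cfg Q D M := ⟨hQ, h, ht, hiso, hfield, hHM, hMΩ⟩
  by_cases hall : ∀ g : ↥(Cfsg.isometryGroup F ⇑Q), (g : GL ι F) ∈ M → Pres Q D g
  · left
    refine le_antisymm (fun g hg => ⟨?_, hMΩ hg⟩) hHM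
    obtain ⟨g', -, rfl⟩ := hMΩ hg
    exact hpres g' (hall g' hg)
  · right
    push Not at hall
    obtain ⟨g, hg, hnp⟩ := hall
    exact le_antisymm hMΩ (C.omega_of_not_pres hg hnp)

end Cfsg.Agent.Lib.OrthMax.Two
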