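import Cfsg.Agent.Lib.OrthMax.Two.Eichler

/-!
A class containing a vector outside the summands forces `Ω`.
-/

set_option autoImplicit false
set_option linter.unusedSectionVars false

namespace Cfsg.Agent.Lib.OrthMax.Two

open QuadraticMap
open Cfsg.Agent.Lib.FormMax.OrthSL (eichlerGL eichlerGL_mulVec Q_eichlerGL)

variable {ι : Type} [Fintype ι] [DecidableEq ι] {F : Type*} [Field F] [Fintype F]
  {Q : QuadraticForm F (ι → F)} {t : ℕ} {D : Fin t → Submodule F (ι → F)} {M : Subgroup (GL ι F)}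

local notation "Vs" => (ι → F)

theorem proj_sum (h : Dec Q 2 D) {S : Finset (Fin t)} {w : Fin t → Vs} (hw : ∀ i ∈ S, w i ∈ D i) (j : Fin t) :
    h.proj j (∑ i ∈ S, w i) = if j ∈ S then w j else 0 := by
  rw [map_sum]
  by_cases hj : j ∈ S
  · rw [if_pos hj, Finset.sum_eq_single j (fun i hi hne => h.proj_of_mem_ne (Ne.symm hne) (hw i hi))
      (fun hn => absurd hj hn), h.proj_of_mem (hw j hj)]
  · rw [if_neg hj]
    exact Finset.sum_eq_zero fun i hi => h.proj_of_mem_ne (fun e => hj (by rw [e]; exact hi)) (hw i hi)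

theorem proj_refl (h : Dec Q 2 D) {l : Fin t} {d : Vs} (hd : d ∈ D l) (hd0 : Q d ≠ 0) (v : Vs) (j : Fin t) :
    h.proj j (Orth.app (Orth.refl Q d hd0) v) = Orth.app (Orth.refl Q d hd0) (h.proj j v) := by
  refine (proj_app h (σ := 1) (fun i x hx => ?_) j v)
  rw [Equiv.Perm.one_apply]
  by_cases hil : i = l
  · subst hil; rw [Orth.app_refl]; exact (D i).sub_mem hx ((D i).smul_mem _ hd)
  · rw [Orth.app_refl_of_polar_eq_zero hd0 (h.orth (Ne.symm hil) hd hx)]; exact hx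

theorem isSquare_of_both {a a' c : F} (hc : c ≠ 0) (h : IsSquare (a * c)) (h' : IsSquare (a' * c)) :
    IsSquare (a * a') := by
  obtain ⟨r, hr⟩ := h
  obtain ⟨s, hs⟩ := h'
  refine ⟨r * s * c⁻¹, ?_⟩
  field_simp
  linear_combination a' * c * hr + r * r * hs

namespace Cfg

variable (C : Cfg Q D M) {i₀ : Fin t} {b : ι → F} (hbD : b ∈ D i₀) (hb : Q b ≠ 0)
include C hbD hb

theorem eSub_of_cl {u e : Vs} (he : Q e = 0) (hue : polar ⇑Q u e = 0) (hu : Cl Q M b u) (hv : Cl Q M b (u + e)) :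
    -((Q u)⁻¹ • u) ∈ eSub M he := by
  obtain ⟨hu0, hb', h1⟩ := hu
  obtain ⟨hv0, _, h2⟩ := hv
  have ha : polar ⇑Q e (-((Q u)⁻¹ • u)) = 0 := by
    rw [polar_neg_right, polar_smul_right, polar_comm _ e u, hue, smul_zero, neg_zero]
  refine ⟨ha, ?_⟩
  have h3 := M.mul_mem h2 (M.inv_mem h1)
  have e' : eichlerGL Q e (-((Q u)⁻¹ • u)) he ha =
      ((Orth.refl Q (u + e) hv0 * Orth.refl Q b hb' * (Orth.refl Q u hu0 * Orth.refl Q b hb')⁻¹ :
        ↥(Cfsg.isometryGroup F ⇑Q)) : GL ι F) := by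
    refine SingMax.gl_ext' fun x => ?_
    show ap (eichlerGL Q e _ he ha) x = Orth.app _ x
    rw [mul_inv_rev, Orth.refl_inv, Orth.refl_inv, mul_assoc, ← mul_assoc (Orth.refl Q b hb'),
      Orth.refl_mul_self, one_mul, Orth.app_mul, Orth.app_refl, Orth.app_refl, ap_E, R]
    have hQ' : Q (u + e) = Q u := by rw [QuadraticMap.map_add (⇑Q), he, hue, add_zero, add_zero]
    simp only [hQ', polar_neg_left, polar_smul_left, polar_add_left, polar_sub_right, polar_smul_right,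
      QuadraticMap.map_neg, QuadraticMap.map_smul, polar_self, polar_comm (⇑Q) e u, hue, two_nsmul, smul_eq_mul]
    match_scalars <;> field_simp <;> ring
  rw [e']
  exact h3

/-- A singular component forces `Ω`. -/
theorem omega_of_singular_comp {u : Vs} (hu : Cl Q M b u) {m l : Fin t} (hm : C.dec.proj m u ≠ 0)
    (hQm : Q (C.dec.proj m u) = 0) (hlm : l ≠ m) (hl : C.dec.proj l u ≠ 0) :
    Cfsg.Geo.omegaGL ⇑Q ≤ M := by
  classical
  obtain ⟨g, hg, hgD, hgfix, hgfree, -, heig⟩ := C.exists_rot m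
  set x := C.dec.proj m u with hx
  obtain ⟨μ, hμ⟩ := heig x (C.dec.proj_mem m u) hQm
  have hgu : Orth.app g u = u + (μ - 1) • x := by
    rw [← sub_eq_iff_eq_add', sub_smul, one_smul, ← hμ]
    show Matrix.mulVecLin ((g : GL ι F) : Matrix ι ι F) u - u = _
    conv_lhs => rw [← C.dec.sum_proj u, map_sum, ← Finset.sum_sub_distrib]
    refine (Finset.sum_eq_single m (fun j _ hj => ?_) (by simp)).trans rfl
    show Orth.app g _ - _ = 0
    rw [hgfix j hj _ (C.dec.proj_mem j u), sub_self]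
  have he : Q ((μ - 1) • x) = 0 := by rw [QuadraticMap.map_smul, hQm, smul_zero]
  have hue : polar ⇑Q u ((μ - 1) • x) = 0 := by
    rw [polar_smul_right, ← C.dec.polar_proj (C.dec.proj_mem m u) u, ← hx, polar_self, hQm, nsmul_zero, smul_zero]
  have hv := C.cl_app hbD hb hg ⟨1, fun i y hy => by rw [Equiv.Perm.one_apply]; exact hgD i y hy⟩ hu
  rw [hgu] at hv
  have hμ1 : μ - 1 ≠ 0 := fun h0 => hm (hgfree x (C.dec.proj_mem m u) (by
    rw [hμ, sub_eq_zero.mp h0, one_smul]))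
  refine C.omega_of_E (smul_ne_zero hμ1 hm) he (le_trans (Finset.card_le_one.mpr ?_) (by omega))
    (C.eSub_of_cl hbD hb he hue hu hv) (l := l) ?_ ?_
  · intro i hi j hj
    have : ∀ i, i ∈ supp C.dec ((μ - 1) • x) → i = m := fun i hi => by
      by_contra hne
      exact mem_supp.mp hi (C.dec.proj_of_mem_ne hne ((D m).smul_mem _ (C.dec.proj_mem m u)))
    rw [this i hi, this j hj]
  · exact C.dec.proj_of_mem_ne hlm ((D m).smul_mem _ (C.dec.proj_mem m u))
  · rw [map_neg, map_smul]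
    exact neg_ne_zero.mpr (smul_ne_zero (inv_ne_zero hu.1) hl)

omit C hbD hb in
/-- The displacement of `u` by reflections in the summands of `S`. -/
def shift (u : Vs) (S : Finset (Fin t)) (d : Fin t → Vs) : Vs :=
  ∑ i ∈ S, (-((Q (d i))⁻¹ * polar ⇑Q (d i) u)) • d i

open Classical in
theorem cl_shift {u : Vs} (hu : Cl Q M b u) (d : Fin t → Vs) (S : Finset (Fin t))
    (hd : ∀ i ∈ S, d i ∈ D i ∧ Q (d i) ≠ 0) :
    (Even (S.filter fun i => ¬ IsSquare (Q (d i) * Q b)).card → Cl Q M b (u + shift (Q := Q) u S d)) ∧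
    (Odd (S.filter fun i => ¬ IsSquare (Q (d i) * Q b)).card → ∀ l, ∀ w ∈ D l, ∀ (hw : Q w ≠ 0),
      ¬ IsSquare (Q w * Q b) → Cl Q M b (Orth.app (Orth.refl Q w hw) (u + shift (Q := Q) u S d))) := by
  induction S using Finset.induction with
  | empty => simpa [shift] using hu
  | @insert i S hi ih =>
    obtain ⟨hiD, hiQ⟩ := hd i (Finset.mem_insert_self i S)
    have hdS : ∀ j ∈ S, d j ∈ D j ∧ Q (d j) ≠ 0 := fun j hj => hd j (Finset.mem_insert_of_mem hj)
    obtain ⟨ihe, iho⟩ := ih hdS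
    have hv : u + shift (Q := Q) u (insert i S) d =
        Orth.app (Orth.refl Q (d i) hiQ) (u + shift (Q := Q) u S d) := by
      rw [Orth.app_add, Orth.app_refl_of_polar_eq_zero hiQ (x := shift (Q := Q) u S d), Orth.app_refl, shift,
        Finset.sum_insert hi, ← shift, neg_smul]
      · abel
      rw [← C.dec.polar_proj' hiD, shift, proj_sum C.dec (fun j hj => (D j).smul_mem _ (hdS j hj).1), if_neg hi,
        polar_zero_right]
    rw [hv, Finset.filter_insert]
    by_cases hc : IsSquare (Q (d i) * Q b)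
    · rw [if_neg (not_not.mpr hc)]
      have hcl := C.cl_of_class hbD hb hiD hiQ hc
      refine ⟨fun he => hcl.refl (ihe he) hiQ, fun ho l w hw hw0 hwc => ?_⟩
      have h1 := (C.cl_of_class hbD hb (d := Orth.app (Orth.refl Q w hw0) (d i)) (l := i) ?_
        (by rwa [Orth.Q_app]) (by rwa [Orth.Q_app])).refl (iho ho l w hw hw0 hwc) (by rwa [Orth.Q_app])
      · rw [← Orth.conj_refl _ hiQ, Orth.app_mul, Orth.app_mul, Orth.app_inv_app] at h1
        exact h1
      · by_cases hil : i = l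
        · rw [Orth.app_refl]; exact (D i).sub_mem hiD ((D i).smul_mem _ (by rw [hil]; exact hw))
        · rw [Orth.app_refl_of_polar_eq_zero hw0 (C.dec.orth (Ne.symm hil) hw hiD)]; exact hiD
    · rw [if_pos hc, Finset.card_insert_of_notMem (by simp [hi])]
      refine ⟨fun he => iho ?_ i (d i) hiD hiQ hc, fun ho l w hw hw0 hwc => ?_⟩
      · rwa [Nat.even_add_one, Nat.not_even_iff_odd] at he
      · refine C.cl_pair hbD hb hw hiD hw0 hiQ ?_ (ihe ?_)
        · have h := isSquare_mul_of_not hwc hc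
          have e : Q w * Q (d i) = Q w * Q b * (Q (d i) * Q b) * ((Q b)⁻¹ * (Q b)⁻¹) := by field_simp
          rw [e]
          exact h.mul ⟨_, rfl⟩
        · rwa [Nat.odd_add_one, Nat.not_odd_iff_even] at ho

theorem exists_shift {u : Vs} {S₀ : Finset (Fin t)} (hS₀ : S₀.card = 3)
    (hQ : ∀ i ∈ S₀, Q (C.dec.proj i u) ≠ 0) :
    ∃ (S : Finset (Fin t)) (d : Fin t → Vs), S.Nonempty ∧ S ⊆ S₀ ∧
      (∀ i ∈ S, d i ∈ D i ∧ Q (d i) ≠ 0 ∧ polar ⇑Q (d i) u ≠ 0) ∧
      ∑ i ∈ S, (Q (d i))⁻¹ * (polar ⇑Q (d i) u * polar ⇑Q (d i) u) = 0 := by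
  classical
  obtain ⟨x, y, z, hxy, hxz, hyz, rfl⟩ := Finset.card_eq_three.mp hS₀
  let f : Fin 3 → Fin t := ![x, y, z]
  have hf : Function.Injective f := by
    intro i j e
    fin_cases i <;> fin_cases j <;> simp_all [f, eq_comm]
  have hfm : ∀ k, f k ∈ ({x, y, z} : Finset (Fin t)) := fun k => by fin_cases k <;> simp [f]
  let X : Fin 3 → Finset F := fun k => disp Q D (f k) (C.dec.proj (f k) u)
  have hX : ((2 : F) ≠ 0 ∧ ∀ i, Fintype.card F ≤ 2 * (X i).card + 1) ∨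
      ((2 : F) = 0 ∧ ∀ i, 2 * Fintype.card F ≤ 4 * (X i).card + 4 ∧
        (5 ≤ Fintype.card F ∨ Fintype.card F ≤ 2 * (X i).card)) := by
    by_cases h2 : (2 : F) = 0
    · exact Or.inr ⟨h2, fun k => ((C.disp_big (C.dec.proj_mem _ u) (hQ _ (hfm k))).resolve_left
        fun h => h.1 h2).2⟩
    · exact Or.inl ⟨h2, fun k => ((C.disp_big (C.dec.proj_mem _ u) (hQ _ (hfm k))).resolve_right
        fun h => h2 h.1).2⟩
  obtain ⟨K, v, hK, hv, hs⟩ := exists_zero_sum X (fun k h => (mem_disp.mp h).1 rfl) hX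
  have hd : ∀ k ∈ K, ∃ d ∈ D (f k), Q d ≠ 0 ∧ polar ⇑Q d u ≠ 0 ∧
      (Q d)⁻¹ * (polar ⇑Q d u * polar ⇑Q d u) = v k := by
    intro k hk
    obtain ⟨hv0, d, hdD, hdQ, he⟩ := mem_disp.mp (hv k hk)
    rw [polar_comm _ _ d, C.dec.polar_proj' hdD] at he
    refine ⟨d, hdD, hdQ, fun h0 => ?_, by rw [← he]; field_simp⟩
    rw [h0, mul_zero] at he
    exact mul_ne_zero hv0 hdQ he
  choose d hdD hdQ hdp hdv using hd
  refine ⟨K.image f, fun i => if h : ∃ k ∈ K, f k = i then d h.choose h.choose_spec.1 else 0,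
    hK.image f, fun i hi => ?_, fun i hi => ?_, ?_⟩
  · obtain ⟨k, -, rfl⟩ := Finset.mem_image.mp hi; exact hfm k
  · obtain ⟨k, hk, rfl⟩ := Finset.mem_image.mp hi
    have hex : ∃ k' ∈ K, f k' = f k := ⟨k, hk, rfl⟩
    simp only [dif_pos hex]
    have he := hf hex.choose_spec.2
    exact ⟨by simpa [he] using hdD _ hex.choose_spec.1, hdQ _ _, hdp _ _⟩
  · rw [Finset.sum_image fun a _ b _ e => hf e, ← hs]
    refine Finset.sum_congr rfl fun k hk => ?_
    have hex : ∃ k' ∈ K, f k' = f k := ⟨k, hk, rfl⟩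
    simp only [dif_pos hex]
    rw [hdv _ hex.choose_spec.1, hf hex.choose_spec.2]

theorem shift_facts {u : Vs} {S : Finset (Fin t)} {d : Fin t → Vs} (hS : S.Nonempty)
    (hd : ∀ i ∈ S, d i ∈ D i ∧ Q (d i) ≠ 0 ∧ polar ⇑Q (d i) u ≠ 0)
    (hs : ∑ i ∈ S, (Q (d i))⁻¹ * (polar ⇑Q (d i) u * polar ⇑Q (d i) u) = 0) :
    Q (shift (Q := Q) u S d) = 0 ∧ polar ⇑Q u (shift (Q := Q) u S d) = 0 ∧
      supp C.dec (shift (Q := Q) u S d) = S ∧ shift (Q := Q) u S d ≠ 0 ∧
      ∀ i ∈ S, ∃ k : F, k ≠ 0 ∧ C.dec.proj i (shift (Q := Q) u S d) = k • d i := by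
  classical
  set e := shift (Q := Q) u S d with he
  have hproj : ∀ j, C.dec.proj j e = if j ∈ S then (-((Q (d j))⁻¹ * polar ⇑Q (d j) u)) • d j else 0 :=
    proj_sum C.dec fun i hi => (D i).smul_mem _ (hd i hi).1
  have hd0 : ∀ i ∈ S, d i ≠ 0 := fun i hi e0 => (hd i hi).2.1 (by rw [e0, QuadraticMap.map_zero])
  have hk : ∀ i ∈ S, (-((Q (d i))⁻¹ * polar ⇑Q (d i) u)) ≠ 0 := fun i hi =>
    neg_ne_zero.mpr (mul_ne_zero (inv_ne_zero (hd i hi).2.1) (hd i hi).2.2)
  have hsupp : supp C.dec e = S := by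
    ext j
    rw [mem_supp, hproj]
    by_cases hj : j ∈ S
    · rw [if_pos hj]; exact iff_of_true (smul_ne_zero (hk j hj) (hd0 j hj)) hj
    · rw [if_neg hj]; exact iff_of_false (fun h => h rfl) hj
  refine ⟨?_, ?_, hsupp, fun e0 => ?_, fun i hi => ⟨_, hk i hi, by rw [hproj, if_pos hi]⟩⟩
  · have h1 := C.dec.Q_sum e Finset.univ
    rw [C.dec.sum_proj] at h1
    rw [h1, ← Finset.sum_subset (Finset.subset_univ S) fun j _ hj => by rw [hproj, if_neg hj, QuadraticMap.map_zero],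
      ← hs]
    refine Finset.sum_congr rfl fun i hi => ?_
    rw [hproj, if_pos hi, QuadraticMap.map_smul, smul_eq_mul]
    have := (hd i hi).2.1
    field_simp
  · rw [he, shift, ← QuadraticMap.polarBilin_apply_apply, map_sum]
    simp only [map_smul, QuadraticMap.polarBilin_apply_apply, smul_eq_mul, neg_mul, Finset.sum_neg_distrib,
      neg_eq_zero]
    rw [← hs]
    refine Finset.sum_congr rfl fun i _ => ?_
    rw [polar_comm _ u (d i)]; ring
  · obtain ⟨i, hi⟩ := hS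
    have : C.dec.proj i e = 0 := by rw [e0, map_zero]
    exact mem_supp.mp (hsupp.symm ▸ hi) this

omit C hbD hb in
/-- The obstruction to correcting reflections by one fixing `u` is absent. -/
def Good (Q : QuadraticForm F (ι → F)) (D : Fin t → Submodule F (ι → F)) (b u : ι → F) : Prop :=
  ∀ l, ∀ d ∈ D l, Q d ≠ 0 → ¬ IsSquare (Q d * Q b) →
    ∃ l', ∃ w ∈ D l', Q w ≠ 0 ∧ ¬ IsSquare (Q w * Q b) ∧ polar ⇑Q w u = 0

theorem good_of_zero {u : Vs} {l' : Fin t} (hl' : C.dec.proj l' u = 0) : Good Q D b u := by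
  intro l d hd hdQ hdc
  obtain ⟨w, hw, hwQ⟩ := C.value l' hdQ
  exact ⟨l', w, hw, hwQ ▸ hdQ, hwQ ▸ hdc, by rw [← C.dec.polar_proj' hw u, hl', polar_zero_right]⟩

theorem omega_of_four {u : Vs} (hu : Cl Q M b u) (hgood : Good Q D b u)
    (hQ : ∀ i ∈ supp C.dec u, Q (C.dec.proj i u) ≠ 0) (h4 : 4 ≤ (supp C.dec u).card) :
    Cfsg.Geo.omegaGL ⇑Q ≤ M := by
  classical
  obtain ⟨S₀, hS₀, hS₀c⟩ := Finset.exists_subset_card_eq (s := supp C.dec u) (n := 3) (by omega)
  obtain ⟨l, hl, hlS⟩ := Finset.exists_mem_notMem_of_card_lt_card (s := S₀) (t := supp C.dec u) (by omega)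
  obtain ⟨S, d, hS, hSS, hd, hs⟩ := C.exists_shift hbD hb hS₀c fun i hi => hQ i (hS₀ hi)
  obtain ⟨heQ, hue, hsupp, he0, -⟩ := C.shift_facts hbD hb hS hd hs
  obtain ⟨hev, hod⟩ := C.cl_shift hbD hb hu d S fun i hi => ⟨(hd i hi).1, (hd i hi).2.1⟩
  set e := shift (Q := Q) u S d
  have hla : C.dec.proj l (-((Q u)⁻¹ • u)) ≠ 0 := by
    rw [map_neg, map_smul]
    exact neg_ne_zero.mpr (smul_ne_zero (inv_ne_zero hu.1) (mem_supp.mp hl))
  have hle : (supp C.dec e).card ≤ 3 := by rw [hsupp]; exact (Finset.card_le_card hSS).trans hS₀c.le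
  have hl0 : C.dec.proj l e = 0 := not_mem_supp.mp (by rw [hsupp]; exact fun h => hlS (hSS h))
  rcases Nat.even_or_odd (S.filter fun i => ¬ IsSquare (Q (d i) * Q b)).card with hn | hn
  · exact C.omega_of_E he0 heQ hle (C.eSub_of_cl hbD hb heQ hue hu (hev hn)) hl0 hla
  obtain ⟨i, hi⟩ : (S.filter fun i => ¬ IsSquare (Q (d i) * Q b)).Nonempty := Finset.card_pos.mp hn.pos
  rw [Finset.mem_filter] at hi
  obtain ⟨l', w, hw, hwQ, hwc, hwu⟩ := hgood i (d i) (hd i hi.1).1 (hd i hi.1).2.1 hi.2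
  have hv := hod hn l' w hw hwQ hwc
  set r := Orth.refl Q w hwQ with hr
  have hru : Orth.app r u = u := Orth.app_refl_of_polar_eq_zero hwQ hwu
  rw [Orth.app_add, hru] at hv
  have he'Q : Q (Orth.app r e) = 0 := by rw [Orth.Q_app, heQ]
  have hue' : polar ⇑Q u (Orth.app r e) = 0 := by
    rw [← hru, Orth.polar_app, hue]
  have hsupp' : supp C.dec (Orth.app r e) = supp C.dec e := by
    ext j
    rw [mem_supp, mem_supp, hr, proj_refl C.dec hw hwQ, ← hr]
    exact ⟨fun h h0 => h (by rw [h0, Orth.app_zero]),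
      fun h h0 => h (Orth.app_injective r (h0.trans (Orth.app_zero r).symm))⟩
  exact C.omega_of_E (fun h0 => he0 (Orth.app_injective r (h0.trans (Orth.app_zero r).symm))) he'Q
    (hsupp' ▸ hle) (C.eSub_of_cl hbD hb he'Q hue' hu hv)
    (not_mem_supp.mp (by rw [hsupp']; exact not_mem_supp.mpr hl0)) hla

/-- Widening the support. -/
theorem exists_wider {u : Vs} (hu : Cl Q M b u) (hQ : ∀ i ∈ supp C.dec u, Q (C.dec.proj i u) ≠ 0)
    (h3 : (supp C.dec u).card ≤ 3) :
    ∃ u', Cl Q M b u' ∧ (supp C.dec u').card + 1 = 2 * (supp C.dec u).card := by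
  classical
  have hu0 : u ≠ 0 := fun e => hu.1 (by rw [e, QuadraticMap.map_zero])
  set S := supp C.dec u with hS
  obtain ⟨m, hm⟩ := supp_nonempty (h := C.dec) hu0
  obtain ⟨g, hg, hgp, hcard, hsub, hkeep⟩ :=
    C.exists_move S {m} (Finset.singleton_subset_iff.mpr hm) h3 u h3
  set v := Orth.app g u with hv
  have hvm : C.dec.proj m v = C.dec.proj m u := hkeep m (Finset.mem_singleton_self m)
  have hinter : supp C.dec v ∩ S = {m} := Finset.Subset.antisymm hsub
    (Finset.singleton_subset_iff.mpr (Finset.mem_inter.mpr ⟨mem_supp.mpr (hvm ▸ mem_supp.mp hm), hm⟩))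
  obtain ⟨l0, hl0⟩ := exists_notMem_finset (supp C.dec v ∪ S) (by
    have := Finset.card_union_le (supp C.dec v) S; have := C.big; rw [← hS] at hcard; omega)
  simp only [Finset.mem_union, not_or, not_mem_supp] at hl0
  obtain ⟨d, hd, hdD, -, hp', hli⟩ := C.exists_second (C.dec.proj_mem m u) (hQ m hm)
  set v' := Orth.app (Orth.refl Q d hd) v with hv'
  have hclv : Cl Q M b v' := C.cl_refl_free hbD hb hdD hd (C.cl_app hbD hb hg hgp hu) hl0.1
  have hj : ∀ j, j ≠ m → C.dec.proj j v' = C.dec.proj j v := fun j hjm => by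
    rw [hv', proj_refl C.dec hdD hd, Orth.app_refl_of_polar_eq_zero hd (C.dec.orth (Ne.symm hjm) hdD (C.dec.proj_mem j v))]
  have hjm : C.dec.proj m v' = Orth.app (Orth.refl Q d hd) (C.dec.proj m u) := by
    rw [hv', proj_refl C.dec hdD hd, hvm]
  have hpol : polar ⇑Q u v' = polar ⇑Q (C.dec.proj m u) (C.dec.proj m v') := by
    conv_lhs => rw [← C.dec.sum_proj v', ← QuadraticMap.polarBilin_apply_apply, map_sum]
    simp only [QuadraticMap.polarBilin_apply_apply]
    rw [Finset.sum_eq_single m (fun j _ hjm' => ?_) (by simp), C.dec.polar_proj (C.dec.proj_mem m v')]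
    rw [← C.dec.polar_proj (C.dec.proj_mem j v') u, hj j hjm']
    by_cases hjS : j ∈ S
    · have : j ∉ supp C.dec v := fun h => hjm' (Finset.mem_singleton.mp (hinter ▸ Finset.mem_inter.mpr ⟨h, hjS⟩))
      rw [not_mem_supp.mp this, polar_zero_right]
    · rw [not_mem_supp.mp hjS, polar_zero_left]
  rw [hjm] at hpol
  set k := (Q u)⁻¹ * polar ⇑Q u v' with hk
  have hk0 : k ≠ 0 := mul_ne_zero (inv_ne_zero hu.1) (hpol ▸ hp')
  refine ⟨Orth.app (Orth.refl Q u hu.1) v', hu.refl hclv hu.1, ?_⟩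
  have hsupp : supp C.dec (Orth.app (Orth.refl Q u hu.1) v') = supp C.dec v ∪ S := by
    ext j
    rw [mem_supp, Orth.app_refl, ← hk, map_sub, map_smul, Finset.mem_union, mem_supp, hS, mem_supp]
    by_cases hjm' : j = m
    · subst hjm'
      refine iff_of_true (fun h0 => ?_) (Or.inr (mem_supp.mp hm))
      rw [hjm] at h0
      exact one_ne_zero (LinearIndependent.pair_iff.mp hli (-k) 1
        (by rw [one_smul, neg_smul, neg_add_eq_sub]; exact h0)).2
    rw [hj j hjm']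
    by_cases hjS : j ∈ S
    · have : j ∉ supp C.dec v := fun h => hjm' (Finset.mem_singleton.mp (hinter ▸ Finset.mem_inter.mpr ⟨h, hjS⟩))
      rw [not_mem_supp.mp this, zero_sub]
      exact iff_of_true (neg_ne_zero.mpr (smul_ne_zero hk0 (mem_supp.mp hjS))) (Or.inr (mem_supp.mp hjS))
    · rw [not_mem_supp.mp hjS, smul_zero, sub_zero]; tauto
  rw [hsupp]
  have h1 := Finset.card_union_add_card_inter (supp C.dec v) S
  rw [hinter, Finset.card_singleton] at h1
  rw [← hS] at hcard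
  omega

theorem omega_of_good {u : Vs} (hu : Cl Q M b u) (hgood : Good Q D b u) (h2 : 2 ≤ (supp C.dec u).card) :
    Cfsg.Geo.omegaGL ⇑Q ≤ M := by
  classical
  have key : ∀ v, Cl Q M b v → 2 ≤ (supp C.dec v).card →
      Cfsg.Geo.omegaGL ⇑Q ≤ M ∨ ∀ i ∈ supp C.dec v, Q (C.dec.proj i v) ≠ 0 := fun v hv hc => by
    by_cases hs : ∃ i ∈ supp C.dec v, Q (C.dec.proj i v) = 0
    · obtain ⟨i, hi, hiQ⟩ := hs
      obtain ⟨l, hl, hli⟩ := Finset.exists_mem_ne (s := supp C.dec v) (by omega) i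
      exact Or.inl (C.omega_of_singular_comp hbD hb hv (mem_supp.mp hi) hiQ hli (mem_supp.mp hl))
    · push Not at hs; exact Or.inr hs
  have hstep : ∀ n, ∀ v, Cl Q M b v → Good Q D b v → 2 ≤ (supp C.dec v).card →
      4 ≤ (supp C.dec v).card + n → Cfsg.Geo.omegaGL ⇑Q ≤ M := by
    intro n
    induction n with
    | zero =>
      intro v hv hg hc h4
      exact (key v hv hc).elim id fun hQ => C.omega_of_four hbD hb hv hg hQ (by omega)
    | succ n ih =>
      intro v hv hg hc h4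
      rcases key v hv hc with h | hQ
      · exact h
      by_cases h3 : 4 ≤ (supp C.dec v).card
      · exact C.omega_of_four hbD hb hv hg hQ h3
      obtain ⟨v', hv', hcv'⟩ := C.exists_wider hbD hb hv hQ (by omega)
      obtain ⟨l', hl'⟩ := exists_notMem_finset (supp C.dec v') (by have := C.big; omega)
      exact ih v' hv' (C.good_of_zero hbD hb (not_mem_supp.mp hl')) (by omega) (by omega)
  exact hstep 2 u hu hgood h2 (by omega)

/-- A class vector with two components forces `Ω`. -/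
theorem omega_of_cl {u : Vs} (hu : Cl Q M b u) (h2 : 2 ≤ (supp C.dec u).card) :
    Cfsg.Geo.omegaGL ⇑Q ≤ M := by
  classical
  by_cases hgood : Good Q D b u
  · exact C.omega_of_good hbD hb hu hgood h2
  by_cases hs : ∃ i ∈ supp C.dec u, Q (C.dec.proj i u) = 0
  · obtain ⟨i, hi, hiQ⟩ := hs
    obtain ⟨l, hl, hli⟩ := Finset.exists_mem_ne (s := supp C.dec u) (by omega) i
    exact C.omega_of_singular_comp hbD hb hu (mem_supp.mp hi) hiQ hli (mem_supp.mp hl)
  push Not at hs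
  have hfull : ∀ i, i ∈ supp C.dec u := fun i => by
    by_contra hi
    exact hgood (C.good_of_zero hbD hb (not_mem_supp.mp hi))
  obtain ⟨A, -, hA⟩ := Finset.exists_subset_card_eq (s := (Finset.univ : Finset (Fin t))) (n := 3)
    (by have := C.big; simp; omega)
  obtain ⟨B, hB', hB⟩ := Finset.exists_subset_card_eq (s := (Finset.univ \ A)) (n := 3)
    (by rw [Finset.card_sdiff_of_subset (Finset.subset_univ _)]; have := C.big; simp; omega)
  have hdis : Disjoint A B := Finset.disjoint_of_subset_right hB' Finset.disjoint_sdiff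
  obtain ⟨S, d, hS, hSA, hd, hsum⟩ := C.exists_shift hbD hb hA fun i _ => hs i (hfull i)
  obtain ⟨T, d', hT, hTB, hd', hsum'⟩ := C.exists_shift hbD hb hB fun i _ => hs i (hfull i)
  obtain ⟨j, hj⟩ := exists_notMem_finset (A ∪ B) (by
    rw [Finset.card_union_of_disjoint hdis]; have := C.big; omega)
  simp only [Finset.mem_union, not_or] at hj
  have hla : C.dec.proj j (-((Q u)⁻¹ • u)) ≠ 0 := by
    rw [map_neg, map_smul]
    exact neg_ne_zero.mpr (smul_ne_zero (inv_ne_zero hu.1) (mem_supp.mp (hfull j)))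
  have small : ∀ (A : Finset (Fin t)) (S : Finset (Fin t)) (d : Fin t → Vs), A.card = 3 → j ∉ A → S.Nonempty →
      S ⊆ A → (∀ i ∈ S, d i ∈ D i ∧ Q (d i) ≠ 0 ∧ polar ⇑Q (d i) u ≠ 0) →
      ∑ i ∈ S, (Q (d i))⁻¹ * (polar ⇑Q (d i) u * polar ⇑Q (d i) u) = 0 →
      Even (S.filter fun i => ¬ IsSquare (Q (d i) * Q b)).card → Cfsg.Geo.omegaGL ⇑Q ≤ M := by
    intro A S d hA hjA hS hSA hd hsum hev
    obtain ⟨heQ, hue, hsupp, he0, -⟩ := C.shift_facts hbD hb hS hd hsum
    exact C.omega_of_E he0 heQ (by rw [hsupp]; exact (Finset.card_le_card hSA).trans hA.le)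
      (C.eSub_of_cl hbD hb heQ hue hu ((C.cl_shift hbD hb hu d S fun i hi => ⟨(hd i hi).1, (hd i hi).2.1⟩).1 hev))
      (not_mem_supp.mp (by rw [hsupp]; exact fun h => hjA (hSA h))) hla
  rcases Nat.even_or_odd (S.filter fun i => ¬ IsSquare (Q (d i) * Q b)).card with hn | hn
  · exact small A S d hA hj.1 hS hSA hd hsum hn
  rcases Nat.even_or_odd (T.filter fun i => ¬ IsSquare (Q (d' i) * Q b)).card with hn' | hn'
  · exact small B T d' hB hj.2 hT hTB hd' hsum' hn'
  -- both odd: join them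
  have hST : Disjoint S T := Finset.disjoint_of_subset_left hSA (Finset.disjoint_of_subset_right hTB hdis)
  set dd : Fin t → Vs := fun i => if i ∈ S then d i else d' i with hdd
  have h1 : ∀ i ∈ S, dd i = d i := fun i hi => by simp [hdd, hi]
  have h1' : ∀ i ∈ T, dd i = d' i := fun i hi => by simp [hdd, Finset.disjoint_right.mp hST hi]
  have hdU : ∀ i ∈ S ∪ T, dd i ∈ D i ∧ Q (dd i) ≠ 0 ∧ polar ⇑Q (dd i) u ≠ 0 := fun i hi => by
    rcases Finset.mem_union.mp hi with h | h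
    · rw [h1 i h]; exact hd i h
    · rw [h1' i h]; exact hd' i h
  have hsumU : ∑ i ∈ S ∪ T, (Q (dd i))⁻¹ * (polar ⇑Q (dd i) u * polar ⇑Q (dd i) u) = 0 := by
    rw [Finset.sum_union hST, Finset.sum_congr rfl fun i hi => by rw [h1 i hi], hsum,
      Finset.sum_congr rfl fun i hi => by rw [h1' i hi], hsum', add_zero]
  obtain ⟨heQ, hue, hsupp, he0, hproj⟩ := C.shift_facts hbD hb (hS.mono Finset.subset_union_left) hdU hsumU
  have hev : Even ((S ∪ T).filter fun i => ¬ IsSquare (Q (dd i) * Q b)).card := by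
    rw [Finset.filter_union, Finset.card_union_of_disjoint (Finset.disjoint_filter_filter hST),
      Finset.filter_congr (s := S) (q := fun i => ¬ IsSquare (Q (d i) * Q b)) fun i hi => by rw [h1 i hi],
      Finset.filter_congr (s := T) (q := fun i => ¬ IsSquare (Q (d' i) * Q b)) fun i hi => by rw [h1' i hi]]
    exact hn.add_odd hn'
  have hv := (C.cl_shift hbD hb hu dd (S ∪ T) fun i hi => ⟨(hdU i hi).1, (hdU i hi).2.1⟩).1 hev
  set e := shift (Q := Q) u (S ∪ T) dd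
  obtain ⟨m, hm⟩ : (S.filter fun i => ¬ IsSquare (Q (d i) * Q b)).Nonempty := Finset.card_pos.mp hn.pos
  rw [Finset.mem_filter] at hm
  obtain ⟨k, hk, hkm⟩ := hproj m (Finset.mem_union_left _ hm.1)
  rw [h1 m hm.1] at hkm
  have hje : C.dec.proj j e = 0 := not_mem_supp.mp (by
    rw [hsupp, Finset.mem_union]
    rintro (h | h)
    exacts [hj.1 (hSA h), hj.2 (hTB h)])
  -- a vector of the class in the free summand
  obtain ⟨b', hb'D, hb'Q, hb'u⟩ : ∃ b' ∈ D j, Q b' = Q b ∧ polar ⇑Q u b' ≠ 0 := by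
    obtain ⟨v, hv', hvQ⟩ := C.value j hb
    by_cases hp : polar ⇑Q u v = 0
    swap
    · exact ⟨v, hv', hvQ, hp⟩
    obtain ⟨d₁, hd₁, hd₁D, -, -, hli⟩ := C.exists_second hv' (hvQ ▸ hb)
    have hwD : Orth.app (Orth.refl Q d₁ hd₁) v ∈ D j := by
      rw [Orth.app_refl]; exact (D j).sub_mem hv' ((D j).smul_mem _ hd₁D)
    refine ⟨_, hwD, by rw [Orth.Q_app, hvQ], fun h0 => ?_⟩
    obtain ⟨z, hz, hne⟩ := C.dec.exists_ne (C.dec.proj_mem j u) (mem_supp.mp (hfull j))
    obtain ⟨α, β, rfl⟩ := mem_pair C.dec hv' hwD hli hz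
    rw [C.dec.polar_proj hz, polar_add_right, polar_smul_right, polar_smul_right, hp, h0] at hne
    simp at hne
  have heb : polar ⇑Q e b' = 0 := by rw [← C.dec.polar_proj hb'D e, hje, polar_zero_left]
  set u' := Orth.app (Orth.refl Q (u + e) hv.1) (Orth.app (Orth.refl Q u hu.1) b') with hu'
  have hclu' : Cl Q M b u' :=
    hv.refl (hu.refl (C.cl_of_class hbD hb hb'D (hb'Q.symm ▸ hb) ⟨Q b, by rw [hb'Q]⟩) hu.1) hv.1
  set k' := (Q u)⁻¹ * polar ⇑Q u b' with hk'
  have hk'0 : k' ≠ 0 := mul_ne_zero (inv_ne_zero hu.1) hb'u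
  have hu'eq : u' = b' + k' • e := by
    have hQ' : Q (u + e) = Q u := by rw [QuadraticMap.map_add (⇑Q), heQ, hue, add_zero, add_zero]
    rw [hu', Orth.app_refl, Orth.app_refl, hQ', polar_sub_right, polar_smul_right, polar_add_left, heb,
      polar_add_left, polar_comm _ e u, hue, polar_self, hk', smul_eq_mul, add_zero, add_zero, two_nsmul]
    have := hu.1
    match_scalars <;> field_simp <;> ring
  have hju : C.dec.proj j u' = b' := by
    rw [hu'eq, map_add, map_smul, C.dec.proj_of_mem hb'D, hje, smul_zero, add_zero]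
  have hjm : j ≠ m := fun e' => hj.1 (e' ▸ hSA hm.1)
  have hmu : C.dec.proj m u' = (k' * k) • d m := by
    rw [hu'eq, map_add, map_smul, C.dec.proj_of_mem_ne (Ne.symm hjm) hb'D, zero_add, hkm, smul_smul]
  obtain ⟨hdmD, hdmQ, -⟩ := hd m hm.1
  refine C.omega_of_good hbD hb hclu' (fun l₀ d₀ _ _ hd₀c => ?_) ?_
  · have h20 : (2 : F) ≠ 0 := fun h2' => hd₀c (isSquare_of_two h2' _)
    obtain ⟨w', hw', hw'0, hdw'⟩ := exists_perp C.dec (i := m) (d m)
    obtain ⟨b'', hb'', hb''0, hbb''⟩ := exists_perp C.dec (i := j) b'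
    have hw'Q := Q_perp_ne C.dec C.nondeg hdmD hdmQ hw' hw'0 hdw'
    have hb''Q := Q_perp_ne C.dec C.nondeg hb'D (hb'Q.symm ▸ hb) hb'' hb''0 hbb''
    by_cases hc : IsSquare (Q b'' * Q b)
    swap
    · exact ⟨j, b'', hb'', hb''Q, hc, by rw [← C.dec.polar_proj' hb'' u', hju, polar_comm, hbb'']⟩
    refine ⟨m, w', hw', hw'Q, fun hwc => hm.2 ?_,
      by rw [← C.dec.polar_proj' hw' u', hmu, polar_smul_right, polar_comm, hdw', smul_zero]⟩
    obtain ⟨f, hf⟩ := C.iso j m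
    have hfp : polar ⇑Q ((f ⟨b', hb'D⟩ : D m) : Vs) ((f ⟨b'', hb''⟩ : D m) : Vs) = 0 := by
      have e1 := hf (⟨b', hb'D⟩ + ⟨b'', hb''⟩)
      rw [map_add, Submodule.coe_add, QuadraticMap.map_add (⇑Q), hf, hf, Submodule.coe_add,
        QuadraticMap.map_add (⇑Q), hbb''] at e1
      exact add_left_cancel e1
    have hdisc := isSquare_disc C.dec C.nondeg hdmD hw' (f ⟨b', hb'D⟩).2 (f ⟨b'', hb''⟩).2 hdmQ hw'0 hdw' hfp h20
    rw [hf, hf] at hdisc
    simp only [hb'Q] at hdisc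
    obtain ⟨r, hr⟩ := hdisc
    obtain ⟨s, hs'⟩ := hwc
    obtain ⟨p, hp⟩ := hc
    have hp0 : p ≠ 0 := fun h => mul_ne_zero hb''Q hb (by rw [hp, h, mul_zero])
    have hs0 : s ≠ 0 := fun h => mul_ne_zero hw'Q hb (by rw [hs', h, mul_zero])
    refine ⟨r * Q b / (s * p), ?_⟩
    field_simp
    linear_combination (Q b) * hr - (Q (d m) * Q b'' * Q b) * hs' - (Q (d m) * (s * s)) * hp
  · refine Finset.one_lt_card.mpr ⟨j, mem_supp.mpr ?_, m, mem_supp.mpr ?_, hjm⟩
    · rw [hju]; exact fun h0 => hb (by rw [← hb'Q, h0, QuadraticMap.map_zero])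
    · rw [hmu]
      exact smul_ne_zero (mul_ne_zero hk'0 hk) fun h0 => hdmQ (by rw [h0, QuadraticMap.map_zero])

end Cfg

end Cfsg.Agent.Lib.OrthMax.Two
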